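import Mathlib

/-!
# The orbit equation of a group partition with fixers of index at most two
-/

set_option autoImplicit false

namespace CfsgLib.CharBlocks.DiffFour

theorem two_term {n c₀ c₁ m₀ m₁ : ℕ} (hn : 60 ≤ n) (h₀ : 2 ≤ c₀) (h₁ : 2 ≤ c₁) (hm : 2 ≤ m₁)
    (e₀ : 2 * m₀ * c₀ = 2 * n) (e₁ : 2 * m₁ * c₁ = n)
    (hsum : n + 2 = 2 * (m₀ + m₁)) : False := by
  rcases (by omega : c₀ = 2 ∨ c₀ = 3 ∨ 4 ≤ c₀) with h | h | h
  · subst h; omega
  · subst h
    rcases (by omega : c₁ = 2 ∨ 3 ≤ c₁) with h' | h'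
    · subst h'; omega
    · have : m₁ * 3 ≤ m₁ * c₁ := Nat.mul_le_mul_left _ h'
      nlinarith
  · have : m₀ * 4 ≤ m₀ * c₀ := Nat.mul_le_mul_left _ h
    have : m₁ * 2 ≤ m₁ * c₁ := Nat.mul_le_mul_left _ h₁
    nlinarith

theorem three_term_sorted {n a b c x y z : ℕ} (hn : 60 ≤ n) (ha : 2 ≤ a) (hab : a ≤ b)
    (hbc : b ≤ c) (hz : 2 ≤ z) (ex : 2 * x * a = n) (ey : 2 * y * b = n)
    (ez : 2 * z * c = n) (hsum : n + 2 = 2 * (x + y + z)) : n = 60 := by
  rcases (by omega : a = 2 ∨ 3 ≤ a) with h | h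
  · subst h
    rcases (by omega : b = 2 ∨ b = 3 ∨ 4 ≤ b) with h' | h' | h'
    · subst h'; omega
    · subst h'
      rcases (by omega : c = 3 ∨ c = 4 ∨ c = 5 ∨ 6 ≤ c) with h'' | h'' | h'' | h''
      · subst h''; omega
      · subst h''; omega
      · subst h''; omega
      · have : z * 6 ≤ z * c := Nat.mul_le_mul_left _ h''
        nlinarith
    · have : y * 4 ≤ y * b := Nat.mul_le_mul_left _ h'
      have : z * 4 ≤ z * c := Nat.mul_le_mul_left _ (h'.trans hbc)
      nlinarith
  · have : x * 3 ≤ x * a := Nat.mul_le_mul_left _ h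
    have : y * 3 ≤ y * b := Nat.mul_le_mul_left _ (h.trans hab)
    have : z * 3 ≤ z * c := Nat.mul_le_mul_left _ (h.trans (hab.trans hbc))
    nlinarith

theorem orbit_equation {Ω : Type*} [Fintype Ω] {n : ℕ} (hn : 60 ≤ n) (w c m : Ω → ℕ)
    (hw : ∀ o, w o = 1 ∨ w o = 2) (hc : ∀ o, 2 ≤ c o) (hm : ∀ o, 2 ≤ m o)
    (he : ∀ o, 2 * m o * c o = w o * n)
    (hsum : (∑ o, w o) * n + 2 = 2 * n + 2 * ∑ o, m o) : n = 60 := by
  classical
  set W := ∑ o, w o with hW
  have h4 : 4 * ∑ o, m o ≤ W * n := by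
    rw [hW, Finset.sum_mul, Finset.mul_sum]
    refine Finset.sum_le_sum fun o _ => ?_
    rw [← he o]
    have : m o * 2 ≤ m o * c o := Nat.mul_le_mul_left _ (hc o)
    nlinarith
  have hWlt : W < 4 := by
    by_contra hcon
    have : 4 * n ≤ W * n := Nat.mul_le_mul_right _ (by omega)
    omega
  have hk : Fintype.card Ω ≤ W := by
    rw [hW, ← Finset.card_univ, Finset.card_eq_sum_ones]
    exact Finset.sum_le_sum fun o _ => by rcases hw o with h | h <;> omega
  have hk0 : 1 ≤ Fintype.card Ω := by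
    by_contra hcon
    have : IsEmpty Ω := Fintype.card_eq_zero_iff.mp (by omega)
    simp [hW] at hsum
    omega
  have hM : 2 * Fintype.card Ω ≤ ∑ o, m o := by
    rw [← Finset.card_univ, Finset.card_eq_sum_ones, Finset.mul_sum]
    exact Finset.sum_le_sum fun o _ => by simpa using hm o
  have hW3 : W = 3 := by
    by_contra hcon
    have : W * n ≤ 2 * n := Nat.mul_le_mul_right _ (by omega)
    omega
  rw [hW3] at hsum
  let e := Fintype.equivFin Ω
  have hsW : ∑ i, w (e.symm i) = 3 := (e.symm.sum_comp w).trans hW3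
  rw [← e.symm.sum_comp m] at hsum
  obtain ⟨k, hk'⟩ : ∃ k, k = Fintype.card Ω := ⟨_, rfl⟩
  rcases (by omega : k = 1 ∨ k = 2 ∨ k = 3) with rfl | rfl | rfl
  · let f := (finCongr hk').trans e.symm
    have := hw (f 0)
    rw [← (finCongr hk').sum_comp, Fin.sum_univ_one] at hsW
    change w (f 0) = 3 at hsW
    omega
  · let f := (finCongr hk').trans e.symm
    have s1 : w (f 0) + w (f 1) = 3 := by
      rw [← hsW, ← (finCongr hk').sum_comp, Fin.sum_univ_two]; rfl
    have s2 : n + 2 = 2 * (m (f 0) + m (f 1)) := by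
      rw [← (finCongr hk').sum_comp, Fin.sum_univ_two] at hsum
      change 3 * n + 2 = 2 * n + 2 * (m (f 0) + m (f 1)) at hsum
      omega
    exfalso
    have e₀ := he (f 0)
    have e₁ := he (f 1)
    rcases hw (f 0) with h | h
    · rw [h] at s1
      rw [h, one_mul] at e₀
      rw [show w (f 1) = 2 by omega] at e₁
      exact two_term hn (hc _) (hc _) (hm _) e₁ e₀ (by omega)
    · rw [h] at s1 e₀
      rw [show w (f 1) = 1 by omega, one_mul] at e₁
      exact two_term hn (hc _) (hc _) (hm _) e₀ e₁ s2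
  · let f := (finCongr hk').trans e.symm
    have s1 : w (f 0) + w (f 1) + w (f 2) = 3 := by
      rw [← (finCongr hk').sum_comp, Fin.sum_univ_three] at hsW
      exact hsW
    have s2 : n + 2 = 2 * (m (f 0) + m (f 1) + m (f 2)) := by
      rw [← (finCongr hk').sum_comp, Fin.sum_univ_three] at hsum
      change 3 * n + 2 = 2 * n + 2 * (m (f 0) + m (f 1) + m (f 2)) at hsum
      omega
    have := hw (f 0); have := hw (f 1); have := hw (f 2)
    have u0 : w (f 0) = 1 := by omega
    have u1 : w (f 1) = 1 := by omega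
    have u2 : w (f 2) = 1 := by omega
    have t : ∀ i, 2 * m (f i) * c (f i) = n := fun i => by
      have h1 : w (f i) = 1 := by
        match i with
        | 0 => exact u0
        | 1 => exact u1
        | 2 => exact u2
      rw [he, h1, one_mul]
    rcases le_total (c (f 0)) (c (f 1)) with a | a <;>
      rcases le_total (c (f 1)) (c (f 2)) with b | b <;>
      rcases le_total (c (f 0)) (c (f 2)) with d | d <;>
      first
        | exact three_term_sorted hn (hc (f 0)) a b (hm _) (t 0) (t 1) (t 2) s2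
        | exact three_term_sorted hn (hc (f 0)) d b (hm _) (t 0) (t 2) (t 1) (by omega)
        | exact three_term_sorted hn (hc (f 1)) a d (hm _) (t 1) (t 0) (t 2) (by omega)
        | exact three_term_sorted hn (hc (f 1)) b d (hm _) (t 1) (t 2) (t 0) (by omega)
        | exact three_term_sorted hn (hc (f 2)) d a (hm _) (t 2) (t 0) (t 1) (by omega)
        | exact three_term_sorted hn (hc (f 2)) b a (hm _) (t 2) (t 1) (t 0) (by omega)

end CfsgLib.CharBlocks.DiffFour
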