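import Cfsg.Agent.Lib.CharBlocks.DiffFour.Basic
import Cfsg.Agent.Lib.CharBlocks.DiffFour.Arith
import Cfsg.Agent.Lib.InvolChar.A8Normalizer

/-!
# Perfect groups with a faithful real character of degree three

Such a group has order sixty: the fixed lines of its non-trivial elements give a partition by
fixers, each of index at most two in the stabiliser of its line.
-/

set_option autoImplicit false

namespace CfsgLib.CharBlocks.DiffFour

open CfsgLib.Char CfsgLib.CharBlocks
open scoped ComplexConjugate

variable {H : Type*} [Group H] [Fintype H]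

/-- The fixer of a vector. -/
def fixer (ρ : Representation ℂ H (Fin 3 → ℂ)) (w : Fin 3 → ℂ) : Subgroup H where
  carrier := {h | ρ h w = w}
  one_mem' := by simp
  mul_mem' {a b} (ha : ρ a w = w) (hb : ρ b w = w) := by
    show ρ (a * b) w = w
    rw [map_mul, Module.End.mul_apply, hb, ha]
  inv_mem' {a} (ha : ρ a w = w) := by
    show ρ a⁻¹ w = w
    conv_lhs => rw [← ha]
    rw [← Module.End.mul_apply, ← map_mul, inv_mul_cancel, map_one, Module.End.one_apply]

theorem mem_fixer {ρ : Representation ℂ H (Fin 3 → ℂ)} {w : Fin 3 → ℂ} {h : H} :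
    h ∈ fixer ρ w ↔ ρ h w = w := Iff.rfl

theorem fixer_smul (ρ : Representation ℂ H (Fin 3 → ℂ)) {w : Fin 3 → ℂ} {c : ℂ} (hc : c ≠ 0) :
    fixer ρ (c • w) = fixer ρ w := by
  ext h
  rw [mem_fixer, mem_fixer, map_smul]
  exact (smul_right_injective _ hc).eq_iff

theorem exists_fixed_line (htop : commutator H = ⊤) (ρ : Representation ℂ H (Fin 3 → ℂ))
    (hreal : ∀ g, conj (ρ.character g) = ρ.character g) (hf : ∀ g, ρ.character g = 3 → g = 1)
    (g : H) (hg : g ≠ 1) :
    ∃ (w : Fin 3 → ℂ) (φ : (Fin 3 → ℂ) →ₗ[ℂ] ℂ), φ w = 1 ∧ ρ g w = w ∧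
      ∀ v, ρ g v = v → v = φ v • w := by
  obtain ⟨b₀, z₀, hz₀⟩ := exists_eigenbasis ρ g
  let e : Fin (Module.finrank ℂ (Fin 3 → ℂ)) ≃ Fin 3 := finCongr (Module.finrank_fin_fun ℂ)
  let b := b₀.reindex e
  let z : Fin 3 → ℂ := fun i => z₀ (e.symm i)
  have hb : ∀ i, ρ g (b i) = z i • b i := fun i => by
    simp only [b, z, Module.Basis.reindex_apply]
    exact (hz₀ _).2
  have hu : ∀ i, conj (z i) * z i = 1 := fun i => by
    rw [mul_comm, Complex.mul_conj', norm_eq_one_of_pow_eq_one' (orderOf_pos g).ne' (hz₀ _).1]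
    norm_num
  have hp : z 0 * z 1 * z 2 = 1 := by
    have hM : LinearMap.toMatrix b b (ρ g) = Matrix.diagonal z := by
      ext i j
      rw [LinearMap.toMatrix_apply, hb, map_smul, b.repr_self]
      rcases eq_or_ne i j with rfl | hij
      · simp
      · simp [Matrix.diagonal_apply_ne _ hij, Finsupp.single_apply, hij.symm]
    have h := hom_eq_one htop (LinearMap.det.comp ρ) g
    rw [MonoidHom.comp_apply, ← LinearMap.det_toMatrix b, hM, Matrix.det_diagonal,
      Fin.prod_univ_three] at h
    exact h
  have htr : ρ.character g = z 0 + z 1 + z 2 :=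
    (trace_eq_sum_eigen b _ z hb).trans (Fin.sum_univ_three z)
  have c0 : conj (z 0) = z 1 * z 2 := by
    linear_combination (-conj (z 0)) * hp + z 1 * z 2 * hu 0
  have c1 : conj (z 1) = z 0 * z 2 := by
    linear_combination (-conj (z 1)) * hp + z 0 * z 2 * hu 1
  have c2 : conj (z 2) = z 0 * z 1 := by
    linear_combination (-conj (z 2)) * hp + z 0 * z 1 * hu 2
  have hone : ∃ i, z i = 1 := by
    have hr := hreal g
    rw [htr, map_add, map_add, c0, c1, c2] at hr
    have h : (1 - z 0) * (1 - z 1) * (1 - z 2) = 0 := by linear_combination hr - hp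
    rcases mul_eq_zero.mp h with h | h
    · rcases mul_eq_zero.mp h with h | h
      · exact ⟨0, (sub_eq_zero.mp h).symm⟩
      · exact ⟨1, (sub_eq_zero.mp h).symm⟩
    · exact ⟨2, (sub_eq_zero.mp h).symm⟩
  obtain ⟨i, hi⟩ := hone
  have huniq : ∀ j, j ≠ i → z j ≠ 1 := by
    intro j hji hj
    refine hg (hf g ?_)
    rw [htr]
    fin_cases i <;> fin_cases j <;> simp_all <;> norm_num
  refine ⟨b i, b.coord i, by simp, by rw [hb, hi, one_smul], fun v hv => ?_⟩
  have hzero : ∀ j, j ≠ i → b.repr v j = 0 := by
    intro j hj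
    have h := congrArg (fun x => b.repr x j) hv
    have hl : b.repr (ρ g v) j = z j * b.repr v j := by
      conv_lhs => rw [← b.sum_repr v]
      simp only [map_sum, map_smul, hb, Finsupp.coe_finset_sum, Finset.sum_apply,
        Finsupp.smul_apply, b.repr_self, Finsupp.single_apply, smul_eq_mul]
      simp [mul_comm]
    simp only [hl] at h
    have h' : (z j - 1) * b.repr v j = 0 := by linear_combination h
    exact (mul_eq_zero.mp h').resolve_left (sub_ne_zero.mpr (huniq j hj))
  conv_lhs => rw [← b.sum_repr v]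
  rw [Finset.sum_eq_single i (fun j _ hj => by rw [hzero j hj, zero_smul]) (by simp)]
  rfl

/-- The sum over a fixer is a rank one map. -/
theorem sum_fixer_comp (ρ : Representation ℂ H (Fin 3 → ℂ)) {g : H} {w : Fin 3 → ℂ}
    {φ : (Fin 3 → ℂ) →ₗ[ℂ] ℂ} (hφ : φ w = 1) (hg : ρ g w = w)
    (hfix : ∀ v, ρ g v = v → v = φ v • w) {h : H} {μ : ℂ} (hh : ρ h w = μ • w)
    [DecidablePred fun x : H => x ∈ fixer ρ w] :
    ∑ c ∈ Finset.univ.filter (· ∈ fixer ρ w), ρ.character (h * c) =
      μ * (Nat.card (fixer ρ w) : ℂ) := by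
  set F := Finset.univ.filter (· ∈ fixer ρ w)
  set T : (Fin 3 → ℂ) →ₗ[ℂ] (Fin 3 → ℂ) := ∑ c ∈ F, ρ c with hT
  have hTg : ∀ v, ρ g (T v) = T v := fun v => by
    simp only [hT, LinearMap.sum_apply, map_sum]
    refine Finset.sum_nbij' (fun c => g * c) (fun c => g⁻¹ * c) ?_ ?_ ?_ ?_ ?_
    · intro c hc
      simp only [F, Finset.coe_filter, Finset.mem_univ, true_and, Set.mem_ofPred_eq, Finset.mem_filter] at hc ⊢
      exact mul_mem hg hc
    · intro c hc
      simp only [F, Finset.coe_filter, Finset.mem_univ, true_and, Set.mem_ofPred_eq, Finset.mem_filter] at hc ⊢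
      exact mul_mem (inv_mem hg) hc
    · intro c _; simp
    · intro c _; simp
    · intro c _; rw [map_mul, Module.End.mul_apply]
  have hTw : T w = (F.card : ℂ) • w := by
    rw [hT, LinearMap.sum_apply, Finset.sum_congr (rfl : F = F) (fun c (hc : c ∈ F) => show ρ c w = w from (Finset.mem_filter.mp hc).2),
      Finset.sum_const, ← Nat.cast_smul_eq_nsmul ℂ]
  have hrank : (ρ h).comp T = (φ.comp T).smulRight (μ • w) := by
    refine LinearMap.ext fun v => ?_
    rw [LinearMap.comp_apply, LinearMap.smulRight_apply, LinearMap.comp_apply]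
    conv_lhs => rw [hfix _ (hTg v)]
    rw [map_smul, hh]
  have hcard : Nat.card (fixer ρ w) = F.card := by
    rw [Nat.card_eq_fintype_card, Fintype.card_subtype]
  calc ∑ c ∈ F, ρ.character (h * c)
      = LinearMap.trace ℂ _ ((ρ h).comp T) := by
        rw [hT, ← Module.End.mul_eq_comp, Finset.mul_sum, map_sum]
        simp only [Representation.character, map_mul]
    _ = μ * (Nat.card (fixer ρ w) : ℂ) := by
        rw [hrank, LinearMap.trace_smulRight, map_smul, LinearMap.comp_apply, hTw, map_smul, hφ,
          hcard]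
        simp

/-- A perfect group with a faithful real irreducible character of degree three has order `60`. -/
theorem card_eq_sixty (htop : commutator H = ⊤) {ψ : H → ℂ} (hψ : Cfsg.IsIrrCharacter H ψ)
    (h3 : ψ 1 = 3) (hreal : cj ψ = ψ) (hf : ∀ g, ψ g = 3 → g = 1) : Nat.card H = 60 := by
  classical
  have hψ1 : Cfsg.classInner ψ (fun _ => (1 : ℂ)) = 0 := classInner_irr_ne hψ isIrrCharacter_one
    (fun e => by rw [e] at h3; norm_num at h3)
  obtain ⟨n, ρ, hirr, rfl⟩ := hψ
  have hn : n = 3 := by
    rw [Representation.char_one, Module.finrank_fin_fun] at h3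
    exact_mod_cast h3
  subst hn
  have hreal' : ∀ g, conj (ρ.character g) = ρ.character g := fun g => congrFun hreal g
  -- size
  have hnt : Nontrivial H := by
    by_contra hcon
    rw [not_nontrivial_iff_subsingleton] at hcon
    rw [classInner_one_right, Fintype.sum_subsingleton _ (1 : H), h3] at hψ1
    simp at hψ1
  have hn60 : 60 ≤ Nat.card H := by
    by_contra hlt
    have := CfsgLib.InvolChar.A8Normalizer.isSolvable_of_card_lt_sixty (G := H) (by omega)
    exact (Group.IsSolvable.commutator_lt_top_of_nontrivial H).ne htop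
  -- fixed lines
  choose W φ hφ hW hWuniq using fun g : {g : H // g ≠ 1} =>
    exists_fixed_line htop ρ hreal' hf g.1 g.2
  let C : {g : H // g ≠ 1} → Subgroup H := fun g => fixer ρ (W g)
  have hmemC : ∀ g : {g : H // g ≠ 1}, (g : H) ∈ C g := fun g => hW g
  have hCeq : ∀ g h : {g : H // g ≠ 1}, (h : H) ∈ C g → C h = C g := by
    intro g h hh
    have e := hWuniq h (W g) hh
    have hc : φ h (W g) ≠ 0 := fun h0 => by
      rw [h0, zero_smul] at e
      have := hφ g
      rw [e, map_zero] at this
      exact zero_ne_one this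
    show fixer ρ (W h) = fixer ρ (W g)
    conv_rhs => rw [e, fixer_smul ρ hc]
  have hconj : ∀ (k : H) (g : {g : H // g ≠ 1}),
      (C g).map (MulAut.conj k).toMonoidHom =
        C ⟨k * g * k⁻¹, by rw [Ne, conj_eq_one_iff]; exact g.2⟩ := by
    intro k g
    set g' : {g : H // g ≠ 1} := ⟨k * g * k⁻¹, _⟩
    have hfixed : ρ (g' : H) (ρ k (W g)) = ρ k (W g) := by
      rw [← Module.End.mul_apply, ← map_mul, show (k * g * k⁻¹) * k = k * (g : H) by group, map_mul,
        Module.End.mul_apply, hW g]
    have e := hWuniq g' _ hfixed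
    have hc : φ g' (ρ k (W g)) ≠ 0 := fun h0 => by
      rw [h0, zero_smul] at e
      have h1 := congrArg (fun v => φ g (ρ k⁻¹ v)) e
      simp only [map_zero] at h1
      rw [← Module.End.mul_apply, ← map_mul, inv_mul_cancel, map_one, Module.End.one_apply,
        hφ g] at h1
      exact one_ne_zero h1
    have hfix' : C g' = fixer ρ (ρ k (W g)) := by
      conv_rhs => rw [e, fixer_smul ρ hc]
    rw [hfix']
    ext x
    rw [Subgroup.mem_map_equiv, MulAut.conj_symm_apply, mem_fixer, mem_fixer]
    constructor
    · intro hx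
      have h1 := congrArg (ρ k) hx
      rwa [← Module.End.mul_apply, ← map_mul, ← mul_assoc, ← mul_assoc, mul_inv_cancel, one_mul,
        map_mul, Module.End.mul_apply] at h1
    · intro hx
      have h1 := congrArg (ρ k⁻¹) hx
      rwa [← Module.End.mul_apply, ← map_mul, ← Module.End.mul_apply, ← map_mul,
        ← Module.End.mul_apply (f := ρ k⁻¹), ← map_mul, inv_mul_cancel, map_one,
        Module.End.one_apply] at h1
  have hstab : ∀ (g : {g : H // g ≠ 1}) (h : H), h ∈ Subgroup.normalizer (C g : Set H) →
      ρ h (W g) = W g ∨ ρ h (W g) = (-1 : ℂ) • W g := by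
    intro g h hh
    have hmem : h⁻¹ * g * h ∈ C g := by
      have := (Subgroup.mem_normalizer_iff.mp (inv_mem hh) (g : H)).mp (hmemC g)
      rwa [inv_inv] at this
    have hfixed : ρ (g : H) (ρ h (W g)) = ρ h (W g) := by
      have h1 := congrArg (ρ h) (show ρ (h⁻¹ * g * h) (W g) = W g from hmem)
      rwa [← Module.End.mul_apply, ← map_mul, ← mul_assoc, ← mul_assoc, mul_inv_cancel, one_mul,
        map_mul, Module.End.mul_apply] at h1
    have e := hWuniq g _ hfixed
    set μ := φ g (ρ h (W g))
    have hsum := sum_fixer_comp ρ (hφ g) (hW g) (hWuniq g) e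
    have hreal2 : conj μ = μ := by
      have h1 := congrArg conj hsum
      rw [map_sum, map_mul, map_natCast, Finset.sum_congr rfl (fun c _ => hreal' (h * c)),
        hsum] at h1
      exact (mul_right_cancel₀ (Nat.cast_ne_zero.mpr Nat.card_pos.ne') h1).symm
    have hiter : ∀ j : ℕ, ρ (h ^ j) (W g) = μ ^ j • W g := by
      intro j
      induction j with
      | zero => simp
      | succ j ih =>
        rw [pow_succ', map_mul, Module.End.mul_apply, ih, map_smul, e, smul_smul, pow_succ]
    have h1 := congrArg (φ g) (hiter (orderOf h))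
    rw [pow_orderOf_eq_one, map_one, Module.End.one_apply, map_smul, hφ, smul_eq_mul,
      mul_one] at h1
    have hn1 : ‖μ‖ = 1 := norm_eq_one_of_pow_eq_one' (orderOf_pos h).ne' h1.symm
    have hμ2 : (μ - 1) * (μ + 1) = 0 := by
      have := Complex.mul_conj' μ
      rw [hreal2, hn1] at this
      push_cast at this
      linear_combination this
    rcases mul_eq_zero.mp hμ2 with h' | h'
    · left; rw [e, sub_eq_zero.mp h', one_smul]
    · right; rw [e, eq_neg_of_add_eq_zero_left h']
  have hCN : ∀ g : {g : H // g ≠ 1}, C g ≤ Subgroup.normalizer (C g : Set H) :=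
    fun g => Subgroup.le_normalizer
  have hrel : ∀ g : {g : H // g ≠ 1},
      (C g).relIndex (Subgroup.normalizer (C g : Set H)) ≤ 2 := by
    intro g
    rw [Subgroup.relIndex, Subgroup.index_eq_card]
    refine le_of_le_of_eq (Nat.card_le_card_of_injective
      (Quotient.lift (fun h : ↥(Subgroup.normalizer (C g : Set H)) =>
        decide (ρ (h : H) (W g) = W g)) ?_) ?_) (by simp : Nat.card Bool = 2)
    · intro a b hab
      have hab' : (a : H)⁻¹ * b ∈ C g := (QuotientGroup.leftRel_apply.mp (show QuotientGroup.leftRel ((C g).subgroupOf _) a b from hab) : _)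
      have e : ρ (b : H) (W g) = ρ (a : H) (W g) := by
        have h1 := congrArg (ρ (a : H)) (show ρ ((a : H)⁻¹ * b) (W g) = W g from hab')
        rwa [← Module.End.mul_apply, ← map_mul, ← mul_assoc, mul_inv_cancel, one_mul] at h1
      simp [e]
    · rintro ⟨a⟩ ⟨b⟩ hab
      refine Quotient.sound (QuotientGroup.leftRel_apply.mpr ?_)
      show (a : H)⁻¹ * b ∈ C g
      have e : ρ (a : H) (W g) = ρ (b : H) (W g) := by
        simp only [Quotient.lift_mk, decide_eq_decide] at hab
        rcases hstab g a a.2 with ha | ha <;> rcases hstab g b b.2 with hb | hb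
        · rw [ha, hb]
        · rw [ha, hab.mp ha]
        · rw [hb, hab.mpr hb]
        · rw [ha, hb]
      rw [mem_fixer, map_mul, Module.End.mul_apply, ← e, ← Module.End.mul_apply, ← map_mul,
        inv_mul_cancel, map_one, Module.End.one_apply]
  -- proper normalizers
  have hidx : ∀ g : {g : H // g ≠ 1}, 2 ≤ (Subgroup.normalizer (C g : Set H)).index := by
    intro g
    by_contra hlt
    have hpos := Nat.pos_of_ne_zero
      (Subgroup.index_ne_zero_of_finite (H := Subgroup.normalizer (C g : Set H)))
    have htopN : Subgroup.normalizer (C g : Set H) = ⊤ := Subgroup.index_eq_one.mp (by omega)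
    have hnC : (C g).Normal := Subgroup.normalizer_eq_top_iff.mp htopN
    have h2 := hrel g
    rw [htopN, Subgroup.relIndex_top_right] at h2
    have hC1 : C g = ⊤ := by
      have hpos := Nat.pos_of_ne_zero (Subgroup.index_ne_zero_of_finite (H := C g))
      rcases (by omega : (C g).index = 1 ∨ (C g).index = 2) with h' | h'
      · exact Subgroup.index_eq_one.mp h'
      · have hfact : Fact (Nat.Prime 2) := ⟨Nat.prime_two⟩
        have hcyc : IsCyclic (H ⧸ C g) := isCyclic_of_prime_card
          ((Subgroup.index_eq_card (C g)).symm.trans h')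
        have hle := Subgroup.Normal.quotient_commutative_iff_commutator_le.mp
          (inferInstance : IsMulCommutative (H ⧸ C g))
        rw [htop] at hle
        rw [top_le_iff.mp hle, Subgroup.index_top] at h'
        omega
    have hsum := sum_fixer_comp ρ (hφ g) (hW g) (hWuniq g) (h := 1) (μ := 1) (by simp)
    rw [one_mul] at hsum
    simp only [one_mul] at hsum
    have hF : Finset.univ.filter (· ∈ fixer ρ (W g)) = (Finset.univ : Finset H) := by
      ext x; simp [show fixer ρ (W g) = ⊤ from hC1]
    rw [hF] at hsum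
    rw [classInner_one_right] at hψ1
    rw [hsum] at hψ1
    simp [Nat.card_pos.ne'] at hψ1
  -- the orbits of fixers
  let X := Set.range C
  letI : Fintype X := Fintype.ofFinite _
  letI : MulAction H X :=
    { smul := fun k x => ⟨(x : Subgroup H).map (MulAut.conj k).toMonoidHom, by
        obtain ⟨g, hg⟩ := x.2
        rw [← hg, hconj]
        exact ⟨_, rfl⟩⟩
      one_smul := fun x => Subtype.ext (by
        show (x : Subgroup H).map (MulAut.conj 1).toMonoidHom = x
        rw [map_one]; exact Subgroup.map_id _)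
      mul_smul := fun a b x => Subtype.ext (by
        show (x : Subgroup H).map (MulAut.conj (a * b)).toMonoidHom = _
        show _ = ((x : Subgroup H).map (MulAut.conj b).toMonoidHom).map (MulAut.conj a).toMonoidHom
        rw [Subgroup.map_map, map_mul]
        rfl) }
  have hsmul : ∀ (k : H) (x : X),
      ((k • x : X) : Subgroup H) = (x : Subgroup H).map (MulAut.conj k).toMonoidHom :=
    fun _ _ => rfl
  have hst : ∀ x : X, MulAction.stabilizer H x = Subgroup.normalizer ((x : Subgroup H) : Set H) := by
    intro x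
    ext k
    rw [MulAction.mem_stabilizer_iff, Subgroup.mem_normalizer_iff, Subtype.ext_iff, hsmul]
    constructor
    · intro e y
      conv_rhs => rw [← e]
      rw [Subgroup.mem_map_equiv, MulAut.conj_symm_apply]
      simp [mul_assoc]
    · intro e
      ext y
      rw [Subgroup.mem_map_equiv, MulAut.conj_symm_apply]
      have := e (k⁻¹ * y * k)
      simpa [mul_assoc] using this
  let Ω := MulAction.orbitRel.Quotient H X
  letI : Fintype Ω := Fintype.ofFinite _
  -- the partition
  have hpart : Nat.card H = 1 + ∑ x : X, (Nat.card (x : Subgroup H) - 1) := by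
    let F : {g : H // g ≠ 1} → X := fun g => ⟨C g, g, rfl⟩
    have hfib : ∀ x : X, (Finset.univ.filter fun g => F g = x).card =
        Nat.card (x : Subgroup H) - 1 := by
      intro x
      obtain ⟨g₀, hg₀⟩ := x.2
      have h1 : Finset.univ.filter (fun g => F g = x) =
          Finset.univ.filter fun g : {g : H // g ≠ 1} => (g : H) ∈ (x : Subgroup H) := by
        refine Finset.filter_congr fun g _ => ⟨fun e => ?_, fun e => Subtype.ext ?_⟩
        · rw [← e]; exact hmemC g
        · show C g = _
          rw [← hg₀] at e ⊢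
          exact hCeq g₀ g e
      rw [h1, Nat.card_eq_fintype_card, Fintype.card_subtype,
        ← Finset.card_map (Function.Embedding.subtype _),
        show (Finset.univ.filter fun g : {g : H // g ≠ 1} => (g : H) ∈ (x : Subgroup H)).map
          (Function.Embedding.subtype _) =
          (Finset.univ.filter fun g : H => g ∈ (x : Subgroup H)).erase 1 by
            ext y; simp [and_comm], Finset.card_erase_of_mem (by simp [one_mem])]
    have h := Finset.card_eq_sum_card_fiberwise (f := F) (s := Finset.univ) (t := Finset.univ)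
      (fun g _ => Finset.mem_univ _)
    rw [Finset.sum_congr rfl fun x _ => hfib x, Finset.card_univ, Fintype.card_subtype_compl,
      Fintype.card_subtype_eq, ← Nat.card_eq_fintype_card] at h
    omega
  let c : Ω → ℕ := fun o => Nat.card ((Quotient.out o : X) : Subgroup H)
  let m : Ω → ℕ := fun o => (Subgroup.normalizer (((Quotient.out o : X) : Subgroup H) : Set H)).index
  have horb : ∀ o : Ω, ∀ x : X, (⟦x⟧ : Ω) = o → Nat.card (x : Subgroup H) = c o := by
    intro o x hx
    obtain ⟨k, hk⟩ : x ∈ MulAction.orbit H (Quotient.out o : X) :=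
      MulAction.orbitRel_apply.mp (Quotient.exact (hx.trans (Quotient.out_eq o).symm))
    have hk' : k • (Quotient.out o : X) = x := hk
    rw [← hk', hsmul, Subgroup.card_map_of_injective (MulAut.conj k).injective]
  have hcount : ∀ o : Ω, (Finset.univ.filter fun x : X => (⟦x⟧ : Ω) = o).card = m o := by
    intro o
    show _ = (Subgroup.normalizer (((Quotient.out o : X) : Subgroup H) : Set H)).index
    rw [← hst, MulAction.index_stabilizer, Set.ncard_eq_toFinset_card']
    refine congrArg Finset.card ?_
    ext x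
    simp only [Finset.mem_filter, Finset.mem_univ, true_and, Set.mem_toFinset]
    exact ⟨fun e => MulAction.orbitRel_apply.mp (Quotient.exact (e.trans (Quotient.out_eq o).symm)),
      fun e => (Quotient.sound (MulAction.orbitRel_apply.mpr e)).trans (Quotient.out_eq o)⟩
  have hkey : ∀ o : Ω, 2 ≤ c o ∧ 2 ≤ m o ∧
      ∃ w : ℕ, (w = 1 ∨ w = 2) ∧ 2 * m o * c o = w * Nat.card H := by
    intro o
    obtain ⟨g, hg⟩ := (Quotient.out o : X).2
    have hc2 : 2 ≤ c o := by
      show 2 ≤ Nat.card ((Quotient.out o : X) : Subgroup H)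
      rw [← hg]
      have : Nontrivial (C g) := ⟨⟨⟨g, hmemC g⟩, 1, fun e => g.2 (congrArg Subtype.val e)⟩⟩
      exact Finite.one_lt_card
    have hm : m o = (Subgroup.normalizer (C g : Set H)).index := by
      show (Subgroup.normalizer _).index = _
      rw [← hg]
    have hc : c o = Nat.card (C g) := by
      show Nat.card _ = _
      rw [← hg]
    have hmul := (Subgroup.normalizer (C g : Set H)).card_mul_index
    rw [← Subgroup.relIndex_bot_left, ← Subgroup.relIndex_mul_relIndex ⊥ (C g) _ bot_le (hCN g),
      Subgroup.relIndex_bot_left] at hmul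
    have hpos : (C g).relIndex (Subgroup.normalizer (C g : Set H)) ≠ 0 :=
      Subgroup.index_ne_zero_of_finite
    refine ⟨hc2, hm ▸ hidx g, ?_⟩
    rcases (by have := hrel g; omega :
      (C g).relIndex (Subgroup.normalizer (C g : Set H)) = 1 ∨
        (C g).relIndex (Subgroup.normalizer (C g : Set H)) = 2) with e | e <;> rw [e] at hmul
    · exact ⟨2, Or.inr rfl, by rw [hm, hc]; linarith⟩
    · exact ⟨1, Or.inl rfl, by rw [hm, hc]; linarith⟩
  choose hc2 hm2 w hw he using hkey
  refine orbit_equation hn60 w c m hw hc2 hm2 he ?_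
  have htot : Nat.card H = 1 + ∑ o : Ω, m o * (c o - 1) := by
    rw [hpart, ← Finset.sum_fiberwise (Finset.univ : Finset X) (fun x => (⟦x⟧ : Ω))]
    congr 1
    refine Finset.sum_congr rfl fun o _ => ?_
    rw [Finset.sum_congr rfl fun x hx => by rw [horb o x (Finset.mem_filter.mp hx).2],
      Finset.sum_const, hcount, smul_eq_mul]
  have e1 : ∑ o, 2 * m o * c o = (∑ o, w o) * Nat.card H := by
    rw [Finset.sum_mul]; exact Finset.sum_congr rfl fun o _ => he o
  have e2 : ∑ o, 2 * m o * c o = 2 * ∑ o, m o * (c o - 1) + 2 * ∑ o, m o := by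
    rw [← mul_add, ← Finset.sum_add_distrib, Finset.mul_sum]
    refine Finset.sum_congr rfl fun o _ => ?_
    obtain ⟨t, ht⟩ := Nat.exists_eq_add_of_le (hc2 o)
    rw [ht, show 2 + t - 1 = 1 + t by omega]
    ring
  omega

end CfsgLib.CharBlocks.DiffFour
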