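import Cfsg.Agent.Lib.CharBlocks.DiffFour.RealThree
import Cfsg.Agent.Lib.CharBlocks.DiffFour.Image

/-!
# The common kernel of the characters of degree three

All characters that do not vanish at `u` have the same kernel `K`, of index sixty.
-/

set_option autoImplicit false

namespace CfsgLib.CharBlocks.DiffFour

open CfsgLib.Char CfsgLib.CharBlocks CfsgLib.CharNormal
open scoped ComplexConjugate

variable {G : Type*} [Group G] [Fintype G]

omit [Fintype G] in
theorem commutator_quotient_eq_top (htop : commutator G = ⊤) (N : Subgroup G) [N.Normal] :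
    commutator (G ⧸ N) = ⊤ := by
  rw [eq_top_iff, ← MonoidHom.range_eq_top.mpr (QuotientGroup.mk'_surjective N),
    MonoidHom.range_eq_map, ← htop, commutator_def, Subgroup.map_commutator]
  exact Subgroup.commutator_mono le_top le_top

/-- A normal subgroup of index dividing sixty in a perfect group is everything or has index sixty. -/
theorem index_of_perfect (htop : commutator G = ⊤) (N : Subgroup G) [N.Normal]
    (h : N.index ∣ 60) : N = ⊤ ∨ N.index = 60 := by
  by_contra hcon
  push Not at hcon
  obtain ⟨h1, h2⟩ := hcon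
  have hlt : Nat.card (G ⧸ N) < 60 := by
    rw [← Subgroup.index_eq_card]
    have := Nat.le_of_dvd (by norm_num) h
    omega
  have hs := CfsgLib.InvolChar.A8Normalizer.isSolvable_of_card_lt_sixty hlt
  have : Nontrivial (G ⧸ N) := by
    rw [← Finite.one_lt_card_iff_nontrivial, ← Subgroup.index_eq_card]
    have := N.index_ne_zero_of_finite
    have : N.index ≠ 1 := fun e => h1 (Subgroup.index_eq_one.mp e)
    omega
  exact (Group.IsSolvable.commutator_lt_top_of_nontrivial (G ⧸ N)).ne
    (commutator_quotient_eq_top htop N)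

/-- The kernel of a real character of degree three in a perfect group has index sixty. -/
theorem index_charKer (htop : commutator G = ⊤) {ψ : G → ℂ} (hψ : Cfsg.IsIrrCharacter G ψ)
    (h3 : ψ 1 = 3) (hreal : cj ψ = ψ) :
    (charKer (isCharacter_of_isIrr hψ)).index = 60 := by
  set K := charKer (isCharacter_of_isIrr hψ) with hK
  have : K.Normal := charKer_normal _
  obtain ⟨φ, hφ, hφe⟩ := exists_irr_eq_comp_mk' K hψ fun n hn => hn
  have := Fintype.ofFinite (G ⧸ K)
  have hval : ∀ g : G, φ (g : G ⧸ K) = ψ g := fun g => congrFun hφe g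
  rw [Subgroup.index_eq_card]
  refine card_eq_sixty (commutator_quotient_eq_top htop K) hφ ?_ ?_ ?_
  · rw [← QuotientGroup.mk_one, hval, h3]
  · funext x
    induction x using QuotientGroup.induction_on with
    | _ g => rw [cj_apply, hval]; exact congrFun hreal g
  · intro x
    induction x using QuotientGroup.induction_on with
    | _ g =>
      intro hg
      rw [hval, ← h3] at hg
      exact (QuotientGroup.eq_one_iff g).mpr hg

/-- `ψ ψ - 1 - ψ`. -/
noncomputable def xi (ψ : G → ℂ) : G → ℂ := adj ψ - ψ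

/-- A central subgroup of exponent three with quotient of order sixty is trivial in a perfect group. -/
theorem central_three_eq_bot {E : Type*} [Group E] [Finite E] (htop : commutator E = ⊤)
    (Z : Subgroup E) [Z.Normal] (hc : Z ≤ Subgroup.center E) (h3 : ∀ z ∈ Z, z ^ 3 = 1)
    (h60 : Z.index = 60) : Z = ⊥ := by
  have : Fact (Nat.Prime 3) := ⟨Nat.prime_three⟩
  have hZp : IsPGroup 3 Z := fun z => ⟨1, Subtype.ext (by simpa using h3 z z.2)⟩
  obtain ⟨P, hP⟩ := hZp.exists_le_sylow
  have hrel : Z.relIndex P * (P : Subgroup E).index = 60 :=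
    (Subgroup.relIndex_mul_index hP).trans h60
  obtain ⟨k, hk⟩ := (P.isPGroup'.index (Z.subgroupOf P))
  change Z.relIndex P = 3 ^ k at hk
  have hk1 : k ≤ 1 := by
    by_contra hcon
    have h9 : 9 ∣ 60 := ⟨3 ^ (k - 2) * (P : Subgroup E).index, by
      rw [← hrel, hk, ← mul_assoc, show (9 : ℕ) = 3 ^ 2 from rfl, ← pow_add]
      congr 2; omega⟩
    omega
  let f := (QuotientGroup.mk' Z).comp (P : Subgroup E).subtype
  have hker : f.ker ≤ Subgroup.center P := fun x hx => Subgroup.mem_center_iff.mpr fun y =>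
    Subtype.ext (Subgroup.mem_center_iff.mp (hc ((QuotientGroup.eq_one_iff _).mp hx)) y)
  have hrange : Nat.card f.range = 3 ^ k := by
    rw [← hk, ← Subgroup.index_ker]
    refine congrArg Subgroup.index ?_
    ext x
    exact QuotientGroup.eq_one_iff (x : E)
  have : IsCyclic f.range := by
    rcases (by omega : k = 0 ∨ k = 1) with rfl | rfl
    · have : Subsingleton f.range := (Nat.card_eq_one_iff_unique.mp hrange).1
      exact isCyclic_of_subsingleton
    · exact isCyclic_of_prime_card hrange
  have hcomm : ∀ a b : P, a * b = b * a :=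
    commutative_of_cyclic_center_quotient f.rangeRestrict (by rwa [MonoidHom.ker_rangeRestrict])
  letI : CommGroup P := { (inferInstance : Group P) with mul_comm := hcomm }
  refine (Subgroup.eq_bot_iff_forall _).mpr fun z hz => ?_
  have key : ∀ (j : ℕ) (g₀ : E), g₀⁻¹ * z ^ j * g₀ ∈ (P : Subgroup E) →
      g₀⁻¹ * z ^ j * g₀ = z ^ j := fun j g₀ _ => by
    rw [mul_assoc, ← Subgroup.mem_center_iff.mp (pow_mem (hc hz) j) g₀, ← mul_assoc,
      inv_mul_cancel, one_mul]
  have ht := MonoidHom.transfer_eq_pow (MonoidHom.id P) z key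
  have hone : MonoidHom.transfer (MonoidHom.id P) z = 1 := by
    have hle := Abelianization.commutator_subset_ker (MonoidHom.transfer (MonoidHom.id P))
    rw [htop] at hle
    exact MonoidHom.mem_ker.mp (hle (Subgroup.mem_top z))
  rw [hone] at ht
  have hpow : z ^ (P : Subgroup E).index = 1 := congrArg Subtype.val ht.symm
  have hcop : Nat.Coprime 3 (P : Subgroup E).index :=
    (Nat.Prime.coprime_iff_not_dvd Nat.prime_three).mpr P.not_dvd_index
  exact orderOf_eq_one_iff.mp (Nat.eq_one_of_dvd_coprimes hcop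
    (orderOf_dvd_of_pow_eq_one (h3 z hz)) (orderOf_dvd_of_pow_eq_one hpow))

namespace Setting

variable {u : G} (S : Setting G u)

include S

theorem part_adj {ψ : G → ℂ} (hψ : Cfsg.IsIrrCharacter G ψ) (h3 : ψ 1 = 3) (hu : ψ u = -1) :
    Part u (adj ψ) 8 0 := by
  have hs := sq_of_value_neg_one S.perfect (isCharacter_of_isIrr hψ) h3 hu
  refine ⟨isCharacter_adj hψ, ?_, ?_, ?_, adj_one_inner hψ⟩
  · show ψ 1 * conj (ψ 1) - 1 = _
    rw [h3, map_ofNat]; norm_num
  · show ψ u * conj (ψ u) - 1 = _
    rw [hu, map_neg, map_one]; norm_num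
  · show ψ (u * u) * conj (ψ (u * u)) - 1 = _
    rw [hs, map_ofNat]; norm_num

/-- A constituent of degree three of `χ χ̄ - 1` with value `-1` leaves degree five. -/
theorem part_rest {A τ : G → ℂ} (P : Part u A 8 0) (hτ : Cfsg.IsIrrCharacter G τ) (h3 : τ 1 = 3)
    (hu : τ u = -1) (hin : Cfsg.classInner A τ ≠ 0) : Part u (A - τ) 5 1 := by
  have hs := sq_of_value_neg_one S.perfect (isCharacter_of_isIrr hτ) h3 hu
  refine ⟨isCharacter_sub P.char hτ hin, ?_, ?_, ?_, ?_⟩
  · rw [Pi.sub_apply, P.deg, h3]; norm_num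
  · rw [Pi.sub_apply, P.val, hu]; norm_num
  · rw [Pi.sub_apply, P.sq, hs]; norm_num
  · rw [classInner_sub_left, P.triv,
      classInner_one_of_ne hτ (ne_one_of_degree (a := 3) (by simpa using h3) (by norm_num)), sub_zero]

theorem xi_facts {ψ : G → ℂ} (hψ : Cfsg.IsIrrCharacter G ψ) (h3 : ψ 1 = 3) (hu : ψ u = -1)
    (hreal : cj ψ = ψ) : Part u (xi ψ) 5 1 ∧ Cfsg.IsIrrCharacter G (xi ψ) := by
  have hin : Cfsg.classInner (adj ψ) ψ ≠ 0 := by
    have e : ψ * cj ψ = symSq ψ + cj ψ := by
      conv_rhs => rw [← altSq_deg_three S.perfect (isCharacter_of_isIrr hψ) h3, symSq_add_altSq]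
      rw [hreal]
    obtain ⟨m, hm⟩ := classInner_char_nat (isCharacter_symSq (isCharacter_of_isIrr hψ))
      (isCharacter_of_isIrr hψ)
    rw [adj, e, classInner_sub_left, classInner_add_left, hm, hreal, classInner_irr_self hψ,
      classInner_irr_ne isIrrCharacter_one hψ
        (ne_one_of_degree (a := 3) (by simpa using h3) (by norm_num)).symm, sub_zero]
    exact_mod_cast Nat.succ_ne_zero m
  have P := S.part_rest (S.part_adj hψ h3 hu) hψ h3 hu hin
  exact ⟨P, (S.part_five P).1⟩

/-- The kernel of `xi ψ` is that of `ψ`. -/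
theorem xi_ker {ψ : G → ℂ} (hψ : Cfsg.IsIrrCharacter G ψ) (h3 : ψ 1 = 3) (hu : ψ u = -1)
    (hreal : cj ψ = ψ) (g : G) : xi ψ g = 5 ↔ ψ g = 3 := by
  obtain ⟨P, hξ⟩ := S.xi_facts hψ h3 hu hreal
  set K := charKer (isCharacter_of_isIrr hψ) with hK
  set L := charKer P.char with hL
  have hKn : K.Normal := charKer_normal _
  have hLn : L.Normal := charKer_normal _
  have hle : K ≤ L := fun k (hk : ψ k = ψ 1) => by
    show xi ψ k = xi ψ 1
    simp only [xi, adj, Pi.sub_apply, Pi.mul_apply, cj, hk]
  have hidx := index_charKer S.perfect hψ h3 hreal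
  have hdvd : L.index ∣ 60 := by rw [← hidx]; exact Subgroup.index_dvd_of_le hle
  rcases index_of_perfect S.perfect L hdvd with htop | h60
  · exfalso
    have : u ∈ L := htop ▸ Subgroup.mem_top u
    have h' : xi ψ u = xi ψ 1 := this
    rw [P.val, P.deg] at h'
    norm_num at h'
  · have hLK : L = K := by
      refine (Subgroup.eq_of_le_of_card_ge hle ?_).symm
      refine le_of_eq (Nat.eq_of_mul_eq_mul_right (by norm_num : 0 < 60) ?_)
      have h1 := L.card_mul_index
      have h2 := K.card_mul_index
      rw [h60] at h1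
      rw [hidx] at h2
      omega
    constructor
    · intro hg
      have : g ∈ L := show xi ψ g = xi ψ 1 by rw [hg, P.deg]; norm_num
      rw [hLK] at this
      exact (this : ψ g = ψ 1).trans h3
    · intro hg
      have : g ∈ L := hle (show ψ g = ψ 1 by rw [hg, h3])
      rw [(this : xi ψ g = xi ψ 1), P.deg]; norm_num

/-- The product with a real character of degree three is reducible. -/
theorem common_constituent {ψ η : G → ℂ} (hψ : Cfsg.IsIrrCharacter G ψ) (h3 : ψ 1 = 3)
    (hu : ψ u = -1) (hreal : cj ψ = ψ) (hη : Cfsg.IsIrrCharacter G η) (hη3 : η 1 = 3)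
    (hηu : η u = -1) :
    Cfsg.classInner (adj η) ψ ≠ 0 ∨ Cfsg.classInner (adj η) (xi ψ) ≠ 0 := by
  by_contra hcon
  push Not at hcon
  obtain ⟨P, hξ⟩ := S.xi_facts hψ h3 hu hreal
  set A := η * cj η with hA
  have hAc : Cfsg.IsCharacter G A :=
    isCharacter_mul (isCharacter_of_isIrr hη) (isCharacter_cj (isCharacter_of_isIrr hη))
  have hψψ : ψ * ψ = (fun _ => (1 : ℂ)) + ψ + xi ψ := by
    rw [xi, adj, hreal]; abel
  have hψ1 : Cfsg.classInner ψ (fun _ => (1 : ℂ)) = 0 :=
    classInner_one_of_ne hψ (ne_one_of_degree (a := 3) (by simpa using h3) (by norm_num))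
  have hAψ : ∀ f : G → ℂ, Cfsg.classInner A f = Cfsg.classInner (adj η) f +
      Cfsg.classInner (fun _ => (1 : ℂ)) f := by
    intro f
    rw [← classInner_add_left, adj, sub_add_cancel]
  have hnorm : Cfsg.classInner (ψ * η) (ψ * η) = 1 := by
    rw [classInner_mul_left, classInner_nat_comm (isCharacter_of_isIrr hψ)
        (isCharacter_mul (isCharacter_cj (isCharacter_of_isIrr hη))
          (isCharacter_mul (isCharacter_of_isIrr hψ) (isCharacter_of_isIrr hη))),
      show cj η * (ψ * η) = A * ψ by rw [hA]; ring, classInner_mul_left, hreal, hψψ,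
      classInner_add_right, classInner_add_right, hAψ ψ, hAψ (xi ψ), hcon.1, hcon.2, hA,
      mul_cj_one hη, ← classInner_conj_symm ψ, hψ1,
      ← classInner_conj_symm (xi ψ) (fun _ : G => (1 : ℂ)), P.triv]
    simp
  have hirr := irr_of_norm_one
    (isCharacter_mul (isCharacter_of_isIrr hψ) (isCharacter_of_isIrr hη)) hnorm
  have hd : (ψ * η) 1 = (9 : ℕ) := by rw [Pi.mul_apply, h3, hη3]; norm_num
  rcases S.value _ hirr (ne_one_of_degree hd (by norm_num)) with e | e
  · rw [hd, Pi.mul_apply, hu, hηu] at e; norm_num at e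
  · rw [Pi.mul_apply, hu, hηu] at e; norm_num at e

theorem real_same_ker {ψ τ : G → ℂ} (hψ : Cfsg.IsIrrCharacter G ψ) (h3 : ψ 1 = 3)
    (hu : ψ u = -1) (hreal : cj ψ = ψ) (hτ : Cfsg.IsIrrCharacter G τ) (hτ3 : τ 1 = 3)
    (hτu : τ u = -1) (hτr : cj τ = τ) (g : G) : τ g = 3 ↔ ψ g = 3 := by
  obtain ⟨P, hξ⟩ := S.xi_facts hψ h3 hu hreal
  obtain ⟨Q, hξτ⟩ := S.xi_facts hτ hτ3 hτu hτr
  have hsplit : adj τ = τ + xi τ := (add_sub_cancel τ _).symm
  have h35 : ∀ {a b : G → ℂ}, a 1 = 3 → b 1 = (5 : ℕ) → a ≠ b := fun ha hb =>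
    irr_ne_of_degree (a := 3) (by simpa using ha) hb (by norm_num)
  rcases S.common_constituent hψ h3 hu hreal hτ hτ3 hτu with h | h
  · have : τ = ψ := by
      by_contra hne
      rw [hsplit, classInner_add_left, classInner_irr_ne hτ hψ hne,
        classInner_irr_ne hξτ hψ (h35 h3 Q.deg).symm, add_zero] at h
      exact h rfl
    rw [this]
  · have : xi τ = xi ψ := by
      by_contra hne
      rw [hsplit, classInner_add_left, classInner_irr_ne hτ hξ (h35 hτ3 P.deg),
        classInner_irr_ne hξτ hξ hne, add_zero] at h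
      exact h rfl
    rw [← S.xi_ker hψ h3 hu hreal, ← S.xi_ker hτ hτ3 hτu hτr, this]

/-- Every character of degree three with value `-1` at `u` is trivial on the common kernel. -/
theorem trivial_on_kernel {ψ η : G → ℂ} (hψ : Cfsg.IsIrrCharacter G ψ) (h3 : ψ 1 = 3)
    (hu : ψ u = -1) (hreal : cj ψ = ψ) (hη : Cfsg.IsIrrCharacter G η) (hη3 : η 1 = 3)
    (hηu : η u = -1) : ∀ k, ψ k = 3 → η k = 3 := by
  classical
  obtain ⟨P, hξ⟩ := S.xi_facts hψ h3 hu hreal
  have PA := S.part_adj hη hη3 hηu
  set K := charKer (isCharacter_of_isIrr hψ) with hK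
  have hKn : K.Normal := charKer_normal _
  have hidx : K.index = 60 := index_charKer S.perfect hψ h3 hreal
  have hmemK : ∀ k, k ∈ K ↔ ψ k = 3 := fun k => by
    show ψ k = ψ 1 ↔ _
    rw [h3]
  have hadj : ∀ k ∈ K, adj η k = 8 := by
    rcases S.common_constituent hψ h3 hu hreal hη hη3 hηu with hin | hin
    · have R := S.part_rest PA hψ h3 hu hin
      obtain ⟨hR, -⟩ := S.part_five R
      letI : Fintype K := Fintype.ofFinite _
      suffices hR1 : Cfsg.classInner (fun k : K => (adj η - ψ) k) (fun _ => (1 : ℂ)) ≠ 0 by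
        intro k hk
        have h := res_eq_degree_of_constituent_one K hR hR1 k hk
        simp only [Pi.sub_apply, (hmemK k).mp hk] at h
        rw [PA.deg, h3] at h
        linear_combination h
      intro h0
      set θ : K → ℂ := fun k => η k with hθ
      have hθc : Cfsg.IsCharacter K θ := isCharacter_res K (isCharacter_of_isIrr hη)
      have hθ4 : Cfsg.classInner θ θ = 4 := by
        have e : Cfsg.classInner θ θ =
            Cfsg.classInner (fun k : K => (adj η - ψ) k) (fun _ => (1 : ℂ)) + 4 := by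
          have hcast : (Nat.card K : ℂ) ≠ 0 := by exact_mod_cast Nat.card_pos.ne'
          rw [classInner_def, classInner_def,
            show (4 : ℂ) = (Nat.card K : ℂ)⁻¹ * ∑ _k : K, (4 : ℂ) by
              simp [← Nat.card_eq_fintype_card]; field_simp,
            ← mul_add, ← Finset.sum_add_distrib]
          refine congrArg _ (Finset.sum_congr rfl fun k _ => ?_)
          simp only [hθ, adj, Pi.sub_apply, Pi.mul_apply, cj, map_one, (hmemK k).mp k.2]
          ring
        rw [e, h0, zero_add]
      obtain ⟨m, hm, hmi⟩ := char_decomp hθc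
      choose d hd0 hd using fun χ : Cfsg.IrrCharacter K => exists_degree_pos χ.2
      have hsq : ∑ χ, m χ * m χ = 4 := by
        have h2 := classInner_eq_sum (f' := θ) (isClassFunction_of_isCharacter hθc)
        simp only [hθ4, hmi, map_natCast] at h2
        exact_mod_cast h2.symm
      have hdeg : ∑ χ, m χ * d χ = 3 := by
        have h2 := congrFun hm 1
        simp only [hθ, OneMemClass.coe_one, hη3, Finset.sum_apply, Pi.smul_apply, smul_eq_mul,
          hd] at h2
        exact_mod_cast h2.symm
      by_cases hbig : ∃ χ, 2 ≤ m χ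
      · obtain ⟨χ, hχ⟩ := hbig
        have h1 := Finset.add_sum_erase Finset.univ (fun χ => m χ * m χ) (Finset.mem_univ χ)
        rw [hsq] at h1
        have hle : m χ * m χ ≤ 4 := by omega
        have hm2 : m χ = 2 := by
          have h4 := Nat.mul_le_mul hχ (le_refl (m χ))
          omega
        have hrest : ∀ χ', χ' ≠ χ → m χ' = 0 := by
          intro χ' hne
          have h0 : ∑ x ∈ Finset.univ.erase χ, m x * m x = 0 := by
            simp only [hm2] at h1; omega
          simpa using Finset.sum_eq_zero_iff.mp h0 χ' (by simp [hne])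
        rw [Finset.sum_eq_single χ (fun x _ hne => by rw [hrest x hne, zero_mul]) (by simp),
          hm2] at hdeg
        omega
      · push Not at hbig
        have : ∑ χ, m χ * m χ ≤ ∑ χ, m χ * d χ := Finset.sum_le_sum fun χ _ => by
          have := hbig χ; have := hd0 χ
          exact Nat.mul_le_mul_left _ (by omega)
        omega
    · have PR : Part u (adj η - xi ψ) 3 (-1) := ⟨isCharacter_sub PA.char hξ hin,
        by rw [Pi.sub_apply, PA.deg, P.deg]; norm_num,
        by rw [Pi.sub_apply, PA.val, P.val]; norm_num,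
        by rw [Pi.sub_apply, PA.sq, P.sq]; norm_num,
        by rw [classInner_sub_left, PA.triv, P.triv, sub_zero]⟩
      obtain ⟨hτ, -⟩ := S.part_three PR
      have hτr : cj (adj η - xi ψ) = adj η - xi ψ := by
        funext g
        have f1 := congrFun (cj_adj η) g
        have f2 := congrFun (cj_adj ψ) g
        have f3 := congrFun hreal g
        simp only [cj, xi, Pi.sub_apply, map_sub] at f1 f2 f3 ⊢
        rw [f1, f2, f3]
      intro k hk
      have h1 := (S.real_same_ker hψ h3 hu hreal hτ (by rw [PR.deg]; norm_num) PR.val hτr k).mpr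
        ((hmemK k).mp hk)
      rw [Pi.sub_apply, (S.xi_ker hψ h3 hu hreal k).mpr ((hmemK k).mp hk)] at h1
      linear_combination h1
  -- scalars
  have hnorm : ∀ k ∈ K, ‖η k‖ = 3 := by
    intro k hk
    have h := hadj k hk
    simp only [adj, Pi.sub_apply, Pi.mul_apply, cj, Complex.mul_conj'] at h
    have h9 : (‖η k‖ : ℂ) ^ 2 = 9 := by linear_combination h
    have h9' : ‖η k‖ ^ 2 = 9 := by exact_mod_cast h9
    nlinarith [norm_nonneg (η k)]
  obtain ⟨n, ρ, -, rfl⟩ := hη
  have hn : n = 3 := by
    rw [Representation.char_one, Module.finrank_fin_fun] at hη3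
    exact_mod_cast hη3
  subst hn
  set hc := isCharacter_char ρ
  set K' := charKer hc with hK'
  have hK'n : K'.Normal := charKer_normal hc
  have hmem' : ∀ x, x ∈ K' ↔ ρ x = LinearMap.id := fun x => by
    show ρ.character x = ρ.character 1 ↔ _
    rw [← character_eq_degree_iff, Representation.char_one]
  have hscal : ∀ k ∈ K, ∃ ω : ℂ, ρ k = ω • (LinearMap.id : (Fin 3 → ℂ) →ₗ[ℂ] _) := fun k hk =>
    (norm_character_eq_iff ρ k).mp (by rw [hnorm k hk, Module.finrank_fin_fun]; norm_num)
  set Z := K.map (QuotientGroup.mk' K') with hZ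
  have hZn : Z.Normal := hKn.map _ (QuotientGroup.mk'_surjective K')
  have hc' : Z ≤ Subgroup.center (G ⧸ K') := by
    rintro _ ⟨k, hk, rfl⟩
    rw [Subgroup.mem_center_iff]
    intro y
    induction y using QuotientGroup.induction_on with
    | _ g =>
      obtain ⟨ω, hω⟩ := hscal k hk
      show ((g * k : G) : G ⧸ K') = ((k * g : G) : G ⧸ K')
      rw [QuotientGroup.eq, hmem', map_mul, map_mul, hω]
      have hswap : ρ g * (ω • LinearMap.id) = (ω • LinearMap.id) * ρ g := by
        refine LinearMap.ext fun v => ?_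
        simp [Module.End.mul_apply]
      have : ρ (g * k)⁻¹ * (ρ k * ρ g) = 1 := by
        rw [hω, ← hswap, ← hω, ← map_mul, ← map_mul, inv_mul_cancel, map_one]
      rw [hω] at this
      exact this
  have h3' : ∀ z ∈ Z, z ^ 3 = 1 := by
    rintro _ ⟨k, hk, rfl⟩
    obtain ⟨ω, hω⟩ := hscal k hk
    have hdet := hom_eq_one S.perfect (LinearMap.det.comp ρ) k
    rw [MonoidHom.comp_apply, hω, LinearMap.det_smul, Module.finrank_fin_fun,
      LinearMap.det_id, mul_one] at hdet
    rw [← map_pow, QuotientGroup.mk'_apply, QuotientGroup.eq_one_iff, hmem', map_pow, hω,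
      smul_pow, hdet]
    rw [show (LinearMap.id : (Fin 3 → ℂ) →ₗ[ℂ] _) = 1 from rfl, one_pow, one_smul]
  have hidx' : Z.index = 60 := by
    have h1 : Z.index ∣ 60 := by
      rw [← hidx]
      exact Subgroup.index_map_dvd _ (QuotientGroup.mk'_surjective K')
    refine (index_of_perfect (commutator_quotient_eq_top S.perfect K') Z h1).resolve_left ?_
    intro htop
    have hall : ∀ g h : G, ((g * h : G) : G ⧸ K') = ((h * g : G) : G ⧸ K') := fun g h =>
      (Subgroup.mem_center_iff.mp (hc' (htop ▸ Subgroup.mem_top (h : G ⧸ K'))) (g : G ⧸ K'))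
    have hcomm : commutator G ≤ K' :=
      Subgroup.Normal.quotient_commutative_iff_commutator_le.mp ⟨⟨fun a b => by
        induction a using QuotientGroup.induction_on with
        | _ g => induction b using QuotientGroup.induction_on with
          | _ h => exact hall g h⟩⟩
    have : u ∈ K' := hcomm (S.perfect ▸ Subgroup.mem_top u)
    have h' : ρ.character u = ρ.character 1 := this
    rw [hηu, hη3] at h'
    norm_num at h'
  have hbot := central_three_eq_bot (commutator_quotient_eq_top S.perfect K') Z hc' h3' hidx'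
  intro k hk
  have : (k : G ⧸ K') ∈ Z := ⟨k, (hmemK k).mpr hk, rfl⟩
  rw [hbot, Subgroup.mem_bot, QuotientGroup.eq_one_iff] at this
  exact (this : ρ.character k = ρ.character 1).trans hη3

end Setting

end CfsgLib.CharBlocks.DiffFour
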