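import Cfsg.Agent.Lib.CharBlocks.DiffFour.Basic

/-!
# A real character of degree three

If every non-principal irreducible character takes at `u` the value `χ(1) - 4` or `0`, a perfect
group has a real irreducible character of degree three with value `-1` at `u`.
-/

set_option autoImplicit false

namespace CfsgLib.CharBlocks.DiffFour

open CfsgLib.Char CfsgLib.CharBlocks
open scoped ComplexConjugate

variable {G : Type*} [Group G]

/-- The setting: a perfect group with values `χ(1) - 4` or `0` at `u`. -/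
structure Setting (G : Type*) [Group G] (u : G) : Prop where
  ne_one : u ≠ 1
  perfect : commutator G = ⊤
  value : ∀ χ : G → ℂ, Cfsg.IsIrrCharacter G χ → χ ≠ (fun _ => (1 : ℂ)) →
    (χ 1 - χ u = 4 ∨ χ u = 0)

variable {u : G} [Fintype G]

theorem one_eq_irrOne : (fun _ : G => (1 : ℂ)) = ((irrOne : Cfsg.IrrCharacter G) : G → ℂ) := rfl

theorem irr_ne_of_degree {χ η : G → ℂ} {a b : ℕ} (ha : χ 1 = a) (hb : η 1 = b) (h : a ≠ b) :
    χ ≠ η := fun e => h (by subst e; exact_mod_cast ha.symm.trans hb)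

theorem ne_one_of_degree {χ : G → ℂ} {a : ℕ} (ha : χ 1 = a) (h : a ≠ 1) :
    χ ≠ fun _ => (1 : ℂ) :=
  irr_ne_of_degree ha (b := 1) Nat.cast_one.symm h

theorem classInner_one_of_ne {χ : G → ℂ} (hχ : Cfsg.IsIrrCharacter G χ)
    (h : χ ≠ fun _ => (1 : ℂ)) : Cfsg.classInner χ (fun _ => (1 : ℂ)) = 0 :=
  classInner_irr_ne hχ isIrrCharacter_one h

theorem mul_cj_one {χ : G → ℂ} (hχ : Cfsg.IsIrrCharacter G χ) :
    Cfsg.classInner (χ * cj χ) (fun _ => (1 : ℂ)) = 1 := by
  rw [mul_comm, classInner_mul_left,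
    show cj χ * (fun _ : G => (1 : ℂ)) = cj χ from funext fun g => mul_one _]
  exact classInner_irr_self (isIrr_cj hχ)

/-- The character `χ χ̄ - 1`. -/
noncomputable def adj (χ : G → ℂ) : G → ℂ := χ * cj χ - fun _ => (1 : ℂ)

theorem isCharacter_adj {χ : G → ℂ} (hχ : Cfsg.IsIrrCharacter G χ) :
    Cfsg.IsCharacter G (adj χ) :=
  isCharacter_sub (isCharacter_mul (isCharacter_of_isIrr hχ)
    (isCharacter_cj (isCharacter_of_isIrr hχ))) isIrrCharacter_one
    (by rw [mul_cj_one hχ]; exact one_ne_zero)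

theorem adj_one_inner {χ : G → ℂ} (hχ : Cfsg.IsIrrCharacter G χ) :
    Cfsg.classInner (adj χ) (fun _ => (1 : ℂ)) = 0 := by
  rw [adj, classInner_sub_left, mul_cj_one hχ, classInner_irr_self isIrrCharacter_one, sub_self]

theorem cj_adj (χ : G → ℂ) : cj (adj χ) = adj χ :=
  funext fun g => by simp [adj, cj, mul_comm]

/-- A character with no principal constituent and with `u * u` in its kernel. -/
structure Part (u : G) (φ : G → ℂ) (n : ℕ) (v : ℂ) : Prop where
  char : Cfsg.IsCharacter G φ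
  deg : φ 1 = n
  val : φ u = v
  sq : φ (u * u) = n
  triv : Cfsg.classInner φ (fun _ => (1 : ℂ)) = 0

namespace Setting

variable (S : Setting G u)

include S

theorem no_full {χ : G → ℂ} (hχ : Cfsg.IsIrrCharacter G χ) (hne : χ ≠ fun _ => (1 : ℂ)) :
    χ u ≠ χ 1 := by
  intro h
  rcases S.value χ hχ hne with e | e
  · rw [h, sub_self] at e
    norm_num at e
  · exact irr_one_ne_zero hχ (h ▸ e)

theorem value_three {χ : G → ℂ} (hχ : Cfsg.IsIrrCharacter G χ) (h3 : χ 1 = 3)
    (hu : χ u ≠ 0) : χ u = -1 := by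
  rcases S.value χ hχ (ne_one_of_degree (a := 3) (by simpa using h3) (by norm_num)) with e | e
  · linear_combination -e + h3
  · exact absurd e hu

theorem no_two {χ : G → ℂ} (hχ : Cfsg.IsIrrCharacter G χ) (h2 : χ 1 = 2) : χ u ≠ -2 := by
  intro h
  have hA := isCharacter_adj hχ
  have hA3 : adj χ 1 = 3 := by
    show χ 1 * conj (χ 1) - 1 = 3
    rw [h2, map_ofNat]; norm_num
  have hAu : adj χ u = adj χ 1 := by
    rw [hA3]
    show χ u * conj (χ u) - 1 = 3
    rw [h, map_neg, map_ofNat]; norm_num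
  obtain ⟨η, hη, hne⟩ := exists_constituent hA (fun h0 => by
    rw [h0, Pi.zero_apply] at hA3; norm_num at hA3)
  refine S.no_full hη (fun he => hne ?_) (constituent_eq_degree hA hη hne hAu).1
  rw [he, adj_one_inner hχ]

theorem two_kernel {χ : G → ℂ} (hχ : Cfsg.IsIrrCharacter G χ) (h2 : χ 1 = 2) :
    χ (u * u) ≠ 2 := by
  intro h
  have e := altSq_deg_two S.perfect (isCharacter_of_isIrr hχ) h2 u
  rw [h] at e
  have e' : (χ u - 2) * (χ u + 2) = 0 := by linear_combination e
  rcases mul_eq_zero.mp e' with e' | e'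
  · exact S.no_full hχ (ne_one_of_degree (a := 2) (by simpa using h2) (by norm_num))
      (by rw [h2]; linear_combination e')
  · exact S.no_two hχ h2 (by linear_combination e')

theorem peel {φ : G → ℂ} {n : ℕ} {v : ℂ} (P : Part u φ n v) (hn : n ≠ 0) :
    ∃ (χ : G → ℂ) (d : ℕ) (e : ℂ), Cfsg.IsIrrCharacter G χ ∧ χ 1 = d ∧ χ u = e ∧
      χ (u * u) = d ∧ Cfsg.classInner φ χ ≠ 0 ∧ 3 ≤ d ∧ d ≤ n ∧
      (d = 3 → e = -1) ∧ (d = 4 → e = 0) ∧ (e = (d : ℂ) - 4 ∨ e = 0) ∧
      Part u (φ - χ) (n - d) (v - e) ∧ (d = n → φ = χ ∧ v = e) := by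
  obtain ⟨χ, hχ, hin⟩ := exists_constituent P.char (fun h0 => hn (by
    have := P.deg
    rw [h0, Pi.zero_apply] at this
    exact_mod_cast this.symm))
  obtain ⟨d, hd0, hd⟩ := exists_degree_pos hχ
  have hne1 : χ ≠ fun _ => (1 : ℂ) := fun he => hin (by rw [he, P.triv])
  obtain ⟨hsq, hsq'⟩ := constituent_eq_degree P.char hχ hin (g := u * u) (P.sq.trans P.deg.symm)
  have hR := isCharacter_sub P.char hχ hin
  obtain ⟨r, hr⟩ := exists_degree hR
  have hnr : (n : ℂ) = (d : ℂ) + r := by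
    rw [← hr, Pi.sub_apply, P.deg, hd]; ring
  have hnr' : n = d + r := by exact_mod_cast hnr
  have hd1 : d ≠ 1 := fun h1 => hne1 (linear_eq_one S.perfect hχ (by rw [hd, h1, Nat.cast_one]))
  have hd2 : d ≠ 2 := fun h2 => S.two_kernel hχ (by rw [hd, h2]; norm_num)
    (by rw [hsq, hd, h2]; norm_num)
  have hdn : r = n - d := by omega
  have hcases : χ u = (d : ℂ) - 4 ∨ χ u = 0 := by
    rcases S.value χ hχ hne1 with e | e
    · left; rw [← hd]; linear_combination -e
    · exact Or.inr e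
  refine ⟨χ, d, χ u, hχ, hd, rfl, hsq.trans hd, hin, by omega, by omega, fun h3 => ?_,
    fun h4 => ?_, hcases, ⟨hR, by rw [hr, hdn], by rw [Pi.sub_apply, P.val],
      by rw [hsq', hr, hdn],
      by rw [classInner_sub_left, P.triv, classInner_one_of_ne hχ hne1, sub_zero]⟩, fun he => ?_⟩
  · subst h3
    rcases deg_three_value S.perfect (isCharacter_of_isIrr hχ) (g := u) (by rw [hd]; norm_num)
      (by rw [hsq, hd]; norm_num) with e | e
    · exact e
    · exact absurd (by rw [e, hd]; norm_num) (S.no_full hχ hne1)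
  · subst h4
    rcases hcases with e | e
    · rw [e]; norm_num
    · exact e
  · have h0 : φ - χ = 0 := eq_zero_of_degree_zero hR (by
      rw [hr, show r = 0 by omega, Nat.cast_zero])
    have heq := sub_eq_zero.mp h0
    exact ⟨heq, by rw [← P.val, heq]⟩

theorem part_one {φ : G → ℂ} {v : ℂ} (P : Part u φ 1 v) : False := by
  obtain ⟨χ, d, e, -, -, -, -, -, h3, hle, -⟩ := S.peel P one_ne_zero
  omega

theorem part_two {φ : G → ℂ} {v : ℂ} (P : Part u φ 2 v) : False := by
  obtain ⟨χ, d, e, -, -, -, -, -, h3, hle, -⟩ := S.peel P two_ne_zero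
  omega

theorem part_three {φ : G → ℂ} {v : ℂ} (P : Part u φ 3 v) :
    Cfsg.IsIrrCharacter G φ ∧ v = -1 := by
  obtain ⟨χ, d, e, hχ, -, -, -, -, h3, hle, he3, -, -, -, hfull⟩ := S.peel P (by norm_num)
  obtain ⟨rfl, rfl⟩ := hfull (by omega)
  exact ⟨hχ, he3 (by omega)⟩

theorem part_four {φ : G → ℂ} {v : ℂ} (P : Part u φ 4 v) :
    Cfsg.IsIrrCharacter G φ ∧ v = 0 := by
  obtain ⟨χ, d, e, hχ, -, -, -, -, h3, hle, he3, he4, -, hP, hfull⟩ := S.peel P (by norm_num)
  rcases (by omega : d = 3 ∨ d = 4) with rfl | rfl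
  · exact (S.part_one hP).elim
  · obtain ⟨rfl, rfl⟩ := hfull rfl
    exact ⟨hχ, he4 rfl⟩

theorem part_five {φ : G → ℂ} {v : ℂ} (P : Part u φ 5 v) :
    Cfsg.IsIrrCharacter G φ ∧ (v = 1 ∨ v = 0) := by
  obtain ⟨χ, d, e, hχ, -, -, -, -, h3, hle, -, -, hv, hP, hfull⟩ := S.peel P (by norm_num)
  rcases (by omega : d = 3 ∨ d = 4 ∨ d = 5) with rfl | rfl | rfl
  · exact (S.part_two hP).elim
  · exact (S.part_one hP).elim
  · obtain ⟨rfl, rfl⟩ := hfull rfl
    refine ⟨hχ, hv.imp_left fun h => ?_⟩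
    rw [h]; norm_num

theorem exists_three : ∃ ψ : G → ℂ, Cfsg.IsIrrCharacter G ψ ∧ ψ 1 = 3 ∧ ψ u = -1 := by
  classical
  by_contra hcon
  push Not at hcon
  have h := sum_degree_mul_apply (G := G) u
  rw [if_neg S.ne_one,
    ← Finset.add_sum_erase _ _ (Finset.mem_univ (irrOne (G := G)))] at h
  have h' := congrArg Complex.re h
  rw [Complex.add_re, Complex.re_sum, Complex.zero_re] at h'
  simp only [show ((irrOne (G := G)) : G → ℂ) = fun _ => 1 from rfl, mul_one, Complex.one_re] at h'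
  have h0 : 0 ≤ ∑ χ ∈ Finset.univ.erase (irrOne (G := G)),
      ((χ : G → ℂ) 1 * (χ : G → ℂ) u).re := by
    refine Finset.sum_nonneg fun χ hχ => ?_
    have hne : (χ : G → ℂ) ≠ fun _ => (1 : ℂ) := fun e => Finset.ne_of_mem_erase hχ (Subtype.ext e)
    rcases S.value χ χ.2 hne with e | e
    · obtain ⟨d, hd0, hd⟩ := exists_degree_pos χ.2
      have hd1 : d ≠ 1 := fun h1 =>
        hne (linear_eq_one S.perfect χ.2 (by rw [hd, h1, Nat.cast_one]))
      have hv : (χ : G → ℂ) u = (d : ℂ) - 4 := by rw [← hd]; linear_combination -e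
      have hd2 : d ≠ 2 := fun h2 => S.no_two χ.2 (by rw [hd, h2]; norm_num)
        (by rw [hv, h2]; norm_num)
      have hd3 : d ≠ 3 := fun h3 => hcon χ χ.2 (by rw [hd, h3]; norm_num) (by rw [hv, h3]; norm_num)
      rw [hd, hv, ← Nat.cast_ofNat, ← Nat.cast_sub (show 4 ≤ d by omega), ← Nat.cast_mul,
        Complex.natCast_re]
      positivity
    · simp [e]
  linarith

/-- A real constituent of degree three inside `3 + 5`. -/
theorem real_of_split {A χ : G → ℂ} {v w : ℂ} (hA : cj A = A) (P : Part u A 8 v)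
    (hχ : Cfsg.IsIrrCharacter G χ) (h3 : χ 1 = 3) (hin : Cfsg.classInner A χ ≠ 0)
    (hr : Part u (A - χ) 5 w) : cj χ = χ := by
  have hrI := (S.part_five hr).1
  by_contra hne
  have hc := isIrr_cj hχ
  have h1 : Cfsg.classInner (A - χ) (cj χ) = 0 := classInner_irr_ne hrI hc
    (irr_ne_of_degree hr.deg (b := 3) (by simp [cj, h3, map_ofNat]) (by norm_num))
  have h2 : Cfsg.classInner A (cj χ) = 0 := by
    rw [classInner_sub_left, classInner_irr_ne hχ hc (Ne.symm hne), sub_zero] at h1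
    exact h1
  rw [← hA, classInner_cj_cj, map_eq_zero] at h2
  exact hin h2

theorem real_of_four {χ : G → ℂ} (hχ : Cfsg.IsIrrCharacter G χ) (h4 : χ 1 = 4) (hu : χ u = 0)
    (hs : χ (u * u) = 4) :
    ∃ ψ : G → ℂ, Cfsg.IsIrrCharacter G ψ ∧ ψ 1 = 3 ∧ ψ u = -1 ∧ cj ψ = ψ := by
  have hc := isCharacter_of_isIrr hχ
  obtain ⟨hreal, hid⟩ := altSq_deg_four S.perfect hc h4
  set A := altSq χ with hA
  have hAc : Cfsg.IsCharacter G A := isCharacter_altSq hc
  have hA1 : A 1 = 6 := by rw [hA, altSq, mul_one, h4]; norm_num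
  have hAu : A u = -2 := by rw [hA, altSq, hu, hs]; norm_num
  have hss : χ (u * u * (u * u)) = 4 := by
    rw [CfsgLib.CharNormal.apply_eq_one_mul hc (hs.trans h4.symm), hs]
  have hAs : A (u * u) = 6 := by rw [hA, altSq, hs, hss]; norm_num
  have hA0 : Cfsg.classInner A (fun _ => (1 : ℂ)) = 0 := by
    by_contra h0
    have hsum : Cfsg.classInner (symSq χ + A) (fun _ => (1 : ℂ)) =
        Cfsg.classInner χ (cj χ) := by
      rw [hA, symSq_add_altSq, classInner_mul_left]
      exact congrArg _ (funext fun g => mul_one _)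
    obtain ⟨a, ha⟩ := classInner_char_nat hAc (isCharacter_one (G := G))
    obtain ⟨b, hb⟩ := classInner_char_nat (isCharacter_symSq hc) (isCharacter_one (G := G))
    rw [classInner_add_left, ha, hb] at hsum
    have hle : b + a ≤ 1 := by
      classical
      rw [classInner_irr hχ (isIrr_cj hχ)] at hsum
      split_ifs at hsum <;> norm_cast at hsum <;> omega
    have ha0 : a ≠ 0 := fun e => h0 (by rw [ha, e, Nat.cast_zero])
    have ha1 : a = 1 := by omega
    have P : Part u (A - fun _ => (1 : ℂ)) 5 (-3) :=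
      ⟨isCharacter_sub hAc isIrrCharacter_one h0, by rw [Pi.sub_apply, hA1]; norm_num,
        by rw [Pi.sub_apply, hAu]; norm_num, by rw [Pi.sub_apply, hAs]; norm_num,
        by rw [classInner_sub_left, ha, ha1, classInner_irr_self isIrrCharacter_one, Nat.cast_one,
          sub_self]⟩
    rcases (S.part_five P).2 with e | e <;> norm_num at e
  have P : Part u A 6 (-2) := ⟨hAc, by rw [hA1]; norm_num, hAu, by rw [hAs]; norm_num, hA0⟩
  obtain ⟨τ, d, e, hτ, hd, he, hds, hin, h3, hle, he3, he4, hv, hP, hfull⟩ :=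
    S.peel P (by norm_num)
  rcases (by omega : d = 3 ∨ d = 4 ∨ d = 5 ∨ d = 6) with rfl | rfl | rfl | rfl
  · have hτ' := (S.part_three hP).1
    have he' := he3 rfl
    subst he'
    have hd' : τ 1 = 3 := by rw [hd]; norm_num
    refine ⟨τ, hτ, hd', he, ?_⟩
    by_contra hne
    set τ' := A - τ with hτ'def
    have hcτ := isIrr_cj hτ
    have h1 : Cfsg.classInner A (cj τ) ≠ 0 := by
      rw [← hreal, classInner_cj_cj]
      exact fun h => hin ((map_eq_zero _).mp h)
    have h2 : τ' = cj τ := by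
      by_contra hn
      apply h1
      rw [show A = τ + τ' from (add_sub_cancel τ A).symm, classInner_add_left,
        classInner_irr_ne hτ hcτ (Ne.symm hne), classInner_irr_ne hτ' hcτ hn, add_zero]
    have hsum : A = τ + cj τ := by rw [← h2]; exact (add_sub_cancel τ A).symm
    have hT := isCharacter_of_isIrr hτ
    have hid' : χ * cj χ - (fun _ => (1 : ℂ)) = cj τ + τ + τ * cj τ := by
      rw [← hid, hsum]
      have e1 := altSq_deg_three S.perfect hT hd'
      have e2 := altSq_deg_three S.perfect (isCharacter_cj hT)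
        (by rw [cj_apply, hd', map_ofNat])
      rw [cj_cj] at e2
      funext g
      have f1 := congrFun e1 g
      have f2 := congrFun e2 g
      simp only [altSq, cj, Pi.add_apply, Pi.mul_apply] at f1 f2 ⊢
      linear_combination f1 + f2
    have h5 := congrArg (fun f => Cfsg.classInner f (fun _ : G => (1 : ℂ))) hid'
    simp only [classInner_add_left] at h5
    rw [show χ * cj χ - (fun _ => (1 : ℂ)) = adj χ from rfl, adj_one_inner hχ, mul_cj_one hτ,
      classInner_one_of_ne hτ (ne_one_of_degree hd (by norm_num)),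
      classInner_one_of_ne hcτ (ne_one_of_degree (a := 3) (by simp [cj, hd', map_ofNat]) (by norm_num))] at h5
    norm_num at h5
  · exact (S.part_two hP).elim
  · exact (S.part_one hP).elim
  · obtain ⟨-, hve⟩ := hfull rfl
    rcases hv with e' | e' <;> rw [e'] at hve <;> norm_num at hve

theorem exists_real_three :
    ∃ ψ : G → ℂ, Cfsg.IsIrrCharacter G ψ ∧ ψ 1 = 3 ∧ ψ u = -1 ∧ cj ψ = ψ := by
  obtain ⟨ψ, hψ, h3, hu⟩ := S.exists_three
  by_cases hreal : cj ψ = ψ
  · exact ⟨ψ, hψ, h3, hu, hreal⟩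
  have hc := isCharacter_of_isIrr hψ
  have hs := sq_of_value_neg_one S.perfect hc h3 hu
  have hss : ψ (u * u * (u * u)) = 3 := by
    rw [CfsgLib.CharNormal.apply_eq_one_mul hc (hs.trans h3.symm), hs]
  have hψ1 : Cfsg.classInner ψ (fun _ => (1 : ℂ)) = 0 :=
    classInner_one_of_ne hψ (ne_one_of_degree (a := 3) (by simpa using h3) (by norm_num))
  -- the character of degree eight
  have P8 : Part u (adj ψ) 8 0 := ⟨isCharacter_adj hψ, by
    show ψ 1 * conj (ψ 1) - 1 = _
    rw [h3, map_ofNat]; norm_num, by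
    show ψ u * conj (ψ u) - 1 = _
    rw [hu, map_neg, map_one]; norm_num, by
    show ψ (u * u) * conj (ψ (u * u)) - 1 = _
    rw [hs, map_ofNat]; norm_num, adj_one_inner hψ⟩
  obtain ⟨χ, d, e, hχ, hd, he, hds, hin, hd3, hle, he3, he4, hv, hP, hfull⟩ :=
    S.peel P8 (by norm_num)
  rcases (by omega : d = 3 ∨ d = 4 ∨ d = 5 ∨ d = 6 ∨ d = 7 ∨ d = 8) with
    rfl | rfl | rfl | rfl | rfl | rfl
  · exact ⟨χ, hχ, by rw [hd]; norm_num, he.trans (he3 rfl),
      S.real_of_split (cj_adj ψ) P8 hχ (by rw [hd]; norm_num) hin hP⟩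
  · exact S.real_of_four hχ (by rw [hd]; norm_num) (he.trans (he4 rfl)) (by rw [hds]; norm_num)
  · obtain ⟨hτ, hw⟩ := S.part_three hP
    refine ⟨adj ψ - χ, hτ, by rw [hP.deg]; norm_num, hP.val.trans hw, ?_⟩
    have hc' : cj χ = χ := by
      by_contra hne
      have hcc := isIrr_cj hχ
      have h1 : Cfsg.classInner (adj ψ) (cj χ) ≠ 0 := by
        rw [← cj_adj, classInner_cj_cj]
        exact fun h => hin ((map_eq_zero _).mp h)
      apply h1
      rw [show adj ψ = χ + (adj ψ - χ) from (add_sub_cancel χ _).symm, classInner_add_left,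
        classInner_irr_ne hχ hcc (Ne.symm hne), classInner_irr_ne hτ hcc
          (irr_ne_of_degree hP.deg (b := 5) (by simp [cj, hd, map_ofNat]) (by norm_num)), add_zero]
    funext g
    have f1 := congrFun (cj_adj ψ) g
    have f2 := congrFun hc' g
    simp only [cj, Pi.sub_apply, map_sub] at f1 f2 ⊢
    rw [f1, f2]
  · exact (S.part_two hP).elim
  · exact (S.part_one hP).elim
  · -- `ψ ψ̄ - 1` irreducible
    obtain ⟨hA, -⟩ := hfull rfl
    rw [← hA] at hχ
    set Q := symSq ψ with hQ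
    have hQc : Cfsg.IsCharacter G Q := isCharacter_symSq hc
    have hdec : Q + cj ψ = ψ * ψ := by
      rw [hQ, ← altSq_deg_three S.perfect hc h3, symSq_add_altSq]
    have hQ0 : Cfsg.classInner Q (fun _ => (1 : ℂ)) = 0 := by
      have h := congrArg (fun f => Cfsg.classInner f (fun _ : G => (1 : ℂ))) hdec
      simp only [classInner_add_left] at h
      rw [classInner_mul_left, show cj ψ * (fun _ : G => (1 : ℂ)) = cj ψ from
          funext fun g => mul_one _, classInner_irr_ne hψ (isIrr_cj hψ) (Ne.symm hreal),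
        classInner_one_of_ne (isIrr_cj hψ)
          (ne_one_of_degree (a := 3) (by simp [cj, h3, map_ofNat]) (by norm_num)), add_zero] at h
      exact h
    have PQ : Part u Q 6 2 := ⟨hQc, by rw [hQ, symSq, mul_one, h3]; norm_num,
      by rw [hQ, symSq, hu, hs]; norm_num, by rw [hQ, symSq, hs, hss]; norm_num, hQ0⟩
    obtain ⟨χ', d, e, hχ', hd', he', -, -, h3', hle', he3', -, -, hP', hfull'⟩ :=
      S.peel PQ (by norm_num)
    rcases (by omega : d = 3 ∨ d = 4 ∨ d = 5 ∨ d = 6) with rfl | rfl | rfl | rfl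
    · have e3 := (S.part_three hP').2
      rw [he3' rfl] at e3
      norm_num at e3
    · exact (S.part_two hP').elim
    · exact (S.part_one hP').elim
    obtain ⟨hQi, -⟩ := hfull' rfl
    rw [← hQi] at hχ'
    have hQψ : Cfsg.classInner Q (cj ψ) = 0 := classInner_irr_ne hχ' (isIrr_cj hψ)
      (irr_ne_of_degree PQ.deg (b := 3) (by simp [cj, h3, map_ofNat]) (by norm_num))
    have hW1 : Cfsg.classInner (ψ * Q) (fun _ => (1 : ℂ)) = 0 := by
      rw [mul_comm, classInner_mul_left, show cj ψ * (fun _ : G => (1 : ℂ)) = cj ψ from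
          funext fun g => mul_one _]
      exact hQψ
    have hW : Cfsg.classInner (ψ * Q) (adj ψ) ≠ 0 := by
      have hexp : Cfsg.classInner (ψ * Q) (ψ * cj ψ) =
          Cfsg.classInner Q Q + Cfsg.classInner Q (ψ * cj Q) := by
        rw [mul_comm ψ Q, classInner_mul_left,
          show cj ψ * (ψ * cj ψ) = Q + ψ * cj Q + cj ψ from funext fun g => by
            have f := congrFun hdec g
            have f' := congrArg conj f
            simp only [Pi.add_apply, Pi.mul_apply, cj, map_add, map_mul, Complex.conj_conj] at f f' ⊢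
            linear_combination (-(ψ g)) * f' - f,
          classInner_add_right, hQψ, add_zero, classInner_add_right]
      obtain ⟨m, hm⟩ := classInner_char_nat hQc (isCharacter_mul hc (isCharacter_cj hQc))
      rw [adj, classInner_sub_right, hW1, sub_zero, hexp, classInner_irr_self hχ', hm]
      exact_mod_cast (by omega : 1 + m ≠ 0)
    have P10 : Part u (ψ * Q - adj ψ) 10 (-2) :=
      ⟨isCharacter_sub (isCharacter_mul hc hQc) hχ hW,
        by rw [Pi.sub_apply, Pi.mul_apply, PQ.deg, P8.deg, h3]; norm_num,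
        by rw [Pi.sub_apply, Pi.mul_apply, PQ.val, P8.val, hu]; norm_num,
        by rw [Pi.sub_apply, Pi.mul_apply, PQ.sq, P8.sq, hs]; norm_num,
        by rw [classInner_sub_left, hW1, adj_one_inner hψ, sub_zero]⟩
    obtain ⟨χ₁, d, e, hχ₁, hd₁, he₁, hds₁, -, h3₁, hle₁, he3₁, he4₁, hv₁, hP₁, hfull₁⟩ :=
      S.peel P10 (by norm_num)
    have four : ∀ {φ : G → ℂ} {w : ℂ}, Part u φ 4 w →
        ∃ ψ : G → ℂ, Cfsg.IsIrrCharacter G ψ ∧ ψ 1 = 3 ∧ ψ u = -1 ∧ cj ψ = ψ := fun P4 => by
      obtain ⟨hi, hw⟩ := S.part_four P4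
      exact S.real_of_four hi (by rw [P4.deg]; norm_num) (P4.val.trans hw)
        (by rw [P4.sq]; norm_num)
    rcases (by omega : d = 3 ∨ d = 4 ∨ d = 5 ∨ d = 6 ∨ d = 7 ∨ d = 8 ∨ d = 9 ∨ d = 10) with
      rfl | rfl | rfl | rfl | rfl | rfl | rfl | rfl
    · rw [he3₁ rfl] at hP₁
      obtain ⟨χ₂, d₂, e₂, hχ₂, hd₂, he₂, hds₂, -, h3₂, hle₂, he3₂, he4₂, hv₂, hP₂, hfull₂⟩ :=
        S.peel hP₁ (by norm_num)
      rcases (by omega : d₂ = 3 ∨ d₂ = 4 ∨ d₂ = 5 ∨ d₂ = 6 ∨ d₂ = 7) with
        rfl | rfl | rfl | rfl | rfl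
      · exact four hP₂
      · exact S.real_of_four hχ₂ (by rw [hd₂]; norm_num) (he₂.trans (he4₂ rfl))
          (by rw [hds₂]; norm_num)
      · exact (S.part_two hP₂).elim
      · exact (S.part_one hP₂).elim
      · obtain ⟨-, hve⟩ := hfull₂ rfl
        rcases hv₂ with e' | e' <;> rw [e'] at hve <;> norm_num at hve
    · exact S.real_of_four hχ₁ (by rw [hd₁]; norm_num) (he₁.trans (he4₁ rfl))
        (by rw [hds₁]; norm_num)
    · have e5 := (S.part_five hP₁).2
      rcases hv₁ with e' | e' <;> rw [e'] at e5 <;> norm_num at e5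
    · exact four hP₁
    · have e3 := (S.part_three hP₁).2
      rcases hv₁ with e' | e' <;> rw [e'] at e3 <;> norm_num at e3
    · exact (S.part_two hP₁).elim
    · exact (S.part_one hP₁).elim
    · obtain ⟨-, hve⟩ := hfull₁ rfl
      rcases hv₁ with e' | e' <;> rw [e'] at hve <;> norm_num at hve

end Setting

end CfsgLib.CharBlocks.DiffFour
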