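import Cfsg.Agent.Lib.CharBlocks.DiffFour.Values
import Cfsg.Agent.Lib.Cores.Basic
import Cfsg.Agent.Lib.PGroup.Basic
import Cfsg.Agent.S0494
import Cfsg.Agent.S0253
import Cfsg.Agent.S3378
import Mathlib.GroupTheory.FixedPointFree

/-!
# Structure from the centralizer and the fusion of `u`
-/

set_option autoImplicit false

namespace CfsgLib.CharBlocks.DiffFour

open CfsgLib.Cores

variable {G : Type*} [Group G]

/-- The data obtained from the characters. -/
structure Core (G : Type*) [Group G] (u : G) (K : Subgroup G) : Prop where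
  normal : K.Normal
  perfect : commutator G = ⊤
  index : K.index = 60
  not_mem : u ∉ K
  sq_mem : u * u ∈ K
  card_cent : Nat.card (Subgroup.centralizer ({u} : Set G)) = 4
  fusion : ∀ g : G, g ∉ K → g * g ∈ K → IsConj u g

/-- A fixed-point-free conjugation by an element squaring into the centralizer inverts. -/
theorem inverts_of_fpf [Finite G] (W : Subgroup G) (x : G) (hW : ∀ w ∈ W, x * w * x⁻¹ ∈ W)
    (hxx : ∀ w ∈ W, x * x * w = w * (x * x)) (hfix : ∀ w ∈ W, x * w * x⁻¹ = w → w = 1) :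
    (∀ w ∈ W, x * w * x⁻¹ = w⁻¹) ∧ IsMulCommutative W := by
  let φ : W →* W :=
    { toFun := fun w => ⟨x * w * x⁻¹, hW w w.2⟩
      map_one' := Subtype.ext (by simp)
      map_mul' := fun a b => Subtype.ext (by simp [mul_assoc]) }
  have hfpf : MonoidHom.FixedPointFree φ := fun w hw =>
    Subtype.ext (hfix w w.2 (congrArg Subtype.val hw))
  have hinv : Function.Involutive φ := fun w => Subtype.ext (by
    show x * (x * w * x⁻¹) * x⁻¹ = w
    rw [show x * (x * (w : G) * x⁻¹) * x⁻¹ = x * x * w * (x * x)⁻¹ by group, hxx w w.2,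
      mul_inv_cancel_right])
  exact ⟨fun w hw => congrArg Subtype.val
    (congrFun (hfpf.coe_eq_inv_of_involutive hinv) ⟨w, hw⟩),
    ⟨⟨fun a b => hfpf.commute_all_of_involutive hinv a b⟩⟩⟩

theorem alt_five_pow_four :
    ∀ x : alternatingGroup (Fin 5), x ^ 4 = 1 → x ^ 2 = 1 := by decide +kernel

/-- Two elements of order four with the same square, one inverting the other. -/
theorem equiv_quaternion [Finite G] {a b : G} (ha : a ^ 4 = 1) (ha2 : a ^ 2 ≠ 1)
    (hb : b * b = a ^ 2) (hab : a * b = b * a⁻¹) (hbne : ∀ n : ℕ, b ≠ a ^ n)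
    (T : Subgroup G) (haT : a ∈ T) (hbT : b ∈ T) (hT : Nat.card T = 8) :
    Nonempty (T ≃* QuaternionGroup 2) := by
  let p : ZMod 4 → G := fun i => a ^ i.val
  have hp : ∀ i j, p (i + j) = p i * p j := fun i j => by
    show a ^ (i + j).val = a ^ i.val * a ^ j.val
    rw [← pow_add, ZMod.val_add, ← pow_eq_pow_mod _ ha]
  have hp0 : p 0 = 1 := by simp [p]
  have hpn : ∀ i, p (-i) = (p i)⁻¹ := fun i => by
    rw [eq_inv_iff_mul_eq_one, ← hp, neg_add_cancel, hp0]
  have hpb : ∀ i, p i * b = b * (p i)⁻¹ := fun i => by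
    have h : SemiconjBy b a⁻¹ a := hab.symm
    have h' := (h.pow_right i.val).eq
    rw [inv_pow] at h'
    exact h'.symm
  let f : QuaternionGroup 2 → T := fun q => match q with
    | .a i => ⟨p i, pow_mem haT _⟩
    | .xa i => ⟨b * p i, mul_mem hbT (pow_mem haT _)⟩
  let φ : QuaternionGroup 2 →* T := MonoidHom.mk' f fun q r => by
    rcases q with i | i <;> rcases r with j | j <;> refine Subtype.ext ?_
    · exact hp i j
    · show b * p (j - i) = p i * (b * p j)
      rw [sub_eq_add_neg, add_comm, hp, hpn, ← mul_assoc, ← mul_assoc, hpb]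
    · show b * p (i + j) = b * p i * p j
      rw [hp, mul_assoc]
    · show p ((2 : ℕ) + j - i) = b * p i * (b * p j)
      rw [show b * p i * (b * p j) = b * (p i * b) * p j by group, hpb,
        show b * (b * (p i)⁻¹) * p j = (b * b) * ((p i)⁻¹ * p j) by group, hb,
        show ((2 : ℕ) : ZMod 4) + j - i = 2 + (-i + j) by push_cast; ring, hp, hp, hpn]
      rfl
  have hinj : Function.Injective φ := by
    rw [injective_iff_map_eq_one]
    intro q hq
    have hq' : ((f q : T) : G) = 1 := congrArg Subtype.val hq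
    have ha1 : a ≠ 1 := fun e => ha2 (by rw [e, one_pow])
    have ha3 : a ^ 3 ≠ 1 := fun e => ha1 (by rw [show 4 = 3 + 1 from rfl, pow_succ, e, one_mul] at ha; exact ha)
    rcases q with i | i
    · have hq'' : a ^ i.val = 1 := hq'
      have hi : i.val < 4 := i.val_lt
      rcases (by omega : i.val = 0 ∨ i.val = 1 ∨ i.val = 2 ∨ i.val = 3) with e | e | e | e
      · rw [(ZMod.val_eq_zero i).mp e]; rfl
      · rw [e, pow_one] at hq''; exact absurd hq'' ha1
      · rw [e] at hq''; exact absurd hq'' ha2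
      · rw [e] at hq''; exact absurd hq'' ha3
    · have hq'' : b * p i = 1 := hq'
      have : b = p (-i) := by rw [hpn]; exact eq_inv_of_mul_eq_one_left hq''
      exact absurd this (hbne _)
  have hcard : Nat.card (QuaternionGroup 2) = 8 := by
    rw [Nat.card_eq_fintype_card, QuaternionGroup.card]
  exact ⟨(MulEquiv.ofBijective φ ((Nat.bijective_iff_injective_and_card φ).2
    ⟨hinj, hcard.trans hT.symm⟩)).symm⟩

namespace Core

variable [Finite G] {u : G} {K : Subgroup G} (C : Core G u K)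

include C

theorem eq_or_top (N : Subgroup G) [N.Normal] (h : K ≤ N) : N = K ∨ N = ⊤ := by
  have hK := C.normal
  have := Fintype.ofFinite G
  rcases index_of_perfect C.perfect N (by rw [← C.index]; exact Subgroup.index_dvd_of_le h) with
    e | e
  · exact Or.inr e
  · refine Or.inl (Subgroup.eq_of_le_of_card_ge h ?_).symm
    refine le_of_eq (Nat.eq_of_mul_eq_mul_right (by norm_num : 0 < 60) ?_)
    have h1 := N.card_mul_index
    have h2 := K.card_mul_index
    rw [e] at h1
    rw [C.index] at h2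
    omega

theorem exists_equiv : haveI := C.normal
    Nonempty (G ⧸ K ≃* alternatingGroup (Fin 5)) := by
  have := C.normal
  have hcard : Nat.card (G ⧸ K) = 60 := (Subgroup.index_eq_card K).symm.trans C.index
  have : Nontrivial (G ⧸ K) := Finite.one_lt_card_iff_nontrivial.mp (by omega)
  have : IsSimpleGroup (G ⧸ K) := ⟨fun M hM => by
    have hMn := hM.comap (QuotientGroup.mk' K)
    have hle : K ≤ M.comap (QuotientGroup.mk' K) := fun k hk => by
      rw [Subgroup.mem_comap, QuotientGroup.mk'_apply, (QuotientGroup.eq_one_iff k).mpr hk]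
      exact one_mem M
    rcases C.eq_or_top _ hle with e | e
    · left
      rw [← Subgroup.map_comap_eq_self_of_surjective (QuotientGroup.mk'_surjective K) M, e,
        QuotientGroup.map_mk'_self]
    · right
      rw [← Subgroup.map_comap_eq_self_of_surjective (QuotientGroup.mk'_surjective K) M, e,
        Subgroup.map_top_of_surjective _ (QuotientGroup.mk'_surjective K)]⟩
  exact Cfsg.Agent.S0494.result hcard

theorem sq_mem_of_two_element {g : G} {j : ℕ} (hg : g ^ 2 ^ j = 1) : g * g ∈ K := by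
  have := C.normal
  obtain ⟨e⟩ := C.exists_equiv
  set x := e (g : G ⧸ K) with hx
  have hxj : x ^ 2 ^ j = 1 := by
    rw [hx, ← map_pow, ← QuotientGroup.mk_pow, hg, QuotientGroup.mk_one, map_one]
  have key : ∀ (i : ℕ) (y : alternatingGroup (Fin 5)), y ^ 2 ^ i = 1 → y ^ 2 = 1 := by
    intro i
    induction i with
    | zero => intro y hy; rw [pow_zero, pow_one] at hy; rw [hy, one_pow]
    | succ i ih =>
      intro y hy
      rw [pow_succ', pow_mul] at hy
      have h4 := ih _ hy
      rw [← pow_mul] at h4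
      exact alt_five_pow_four y h4
  have h2 := key j x hxj
  rw [hx, sq, ← map_mul, ← QuotientGroup.mk_mul, e.map_eq_one_iff] at h2
  exact (QuotientGroup.eq_one_iff _).mp h2

theorem oddCore_le : Cfsg.oddCore G ≤ K := by
  have := C.normal
  have hN : (Cfsg.oddCore G).Normal := Cfsg.pPrimeCore_normal 2 G
  rcases C.eq_or_top (Cfsg.oddCore G ⊔ K) le_sup_right with e | e
  · exact e ▸ le_sup_left
  · exfalso
    have h := Subgroup.relIndex_sup_right (H := Cfsg.oddCore G) (K := K)
    rw [e, Subgroup.relIndex_top_right, C.index] at h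
    have hd : 60 ∣ Nat.card (Cfsg.oddCore G) := h ▸ Subgroup.relIndex_dvd_card _ _
    have hodd : (Nat.card (Cfsg.oddCore G)).Coprime 2 := coprime_card_pPrimeCore 2
    have h2 : 2 ∣ Nat.card (Cfsg.oddCore G) := dvd_trans (by norm_num) hd
    have := Nat.Coprime.eq_one_of_dvd hodd.symm h2
    omega

/-- A Sylow `2`-subgroup through `u` meets `K` with index four. -/
theorem exists_sylow : ∃ T : Sylow 2 G, u ^ 4 = 1 → u ∈ (T : Subgroup G) ∧
    K.relIndex (T : Subgroup G) = 4 ∧ Odd ((T : Subgroup G).relIndex K) := by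
  have := C.normal
  have : Fact (Nat.Prime 2) := ⟨Nat.prime_two⟩
  by_cases h4 : u ^ 4 = 1
  swap
  · exact ⟨Classical.arbitrary _, fun h => absurd h h4⟩
  have hp : IsPGroup 2 (Subgroup.zpowers u) := by
    obtain ⟨i, -, hi⟩ := (Nat.dvd_prime_pow Nat.prime_two).mp
      (orderOf_dvd_of_pow_eq_one (show u ^ 2 ^ 2 = 1 by norm_num; exact h4))
    exact IsPGroup.of_card (n := i) (by rw [Nat.card_zpowers, hi])
  obtain ⟨T, hT⟩ := hp.exists_le_sylow
  have hrelT : K.relIndex T = 4 := by
    have h1 : K.relIndex T ∣ 60 := C.index ▸ Subgroup.relIndex_dvd_index_of_normal K _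
    obtain ⟨n, hn⟩ := T.isPGroup'.index (K.subgroupOf (T : Subgroup G))
    change K.relIndex T = 2 ^ n at hn
    have hn2 : n ≤ 2 := by
      by_contra hcon
      have : 8 ∣ 60 := dvd_trans (by
        rw [hn, show (8 : ℕ) = 2 ^ 3 from rfl]; exact pow_dvd_pow 2 (by omega)) h1
      omega
    have h4d : 4 ∣ K.relIndex T := by
      have h2 : 60 ∣ (K ⊓ (T : Subgroup G)).index :=
        C.index ▸ Subgroup.index_dvd_of_le inf_le_left
      rw [← Subgroup.relIndex_mul_index (inf_le_right : K ⊓ (T : Subgroup G) ≤ _),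
        Subgroup.inf_relIndex_right] at h2
      have hcop : Nat.Coprime 4 (T : Subgroup G).index := by
        rw [show (4 : ℕ) = 2 ^ 2 from rfl]
        exact Nat.Coprime.pow_left _ ((Nat.Prime.coprime_iff_not_dvd Nat.prime_two).mpr
          T.not_dvd_index)
      exact hcop.dvd_of_dvd_mul_right (dvd_trans (by norm_num) h2)
    have := Nat.le_of_dvd (Nat.pos_of_ne_zero Subgroup.index_ne_zero_of_finite) h4d
    change 4 ≤ K.relIndex T at this
    rw [hn] at this ⊢
    rcases (by omega : n = 0 ∨ n = 1 ∨ n = 2) with rfl | rfl | rfl <;> omega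
  refine ⟨T, fun _ => ⟨hT (Subgroup.mem_zpowers u), hrelT, ?_⟩⟩
  · rw [← Nat.not_even_iff_odd, even_iff_two_dvd]
    intro h
    have hsup : (T : Subgroup G).relIndex K ∣ (T : Subgroup G).index := by
      have e1 := Subgroup.relIndex_mul_index (inf_le_left : K ⊓ (T : Subgroup G) ≤ K)
      have e2 := Subgroup.relIndex_mul_index (inf_le_right : K ⊓ (T : Subgroup G) ≤ T)
      rw [Subgroup.inf_relIndex_left, C.index] at e1
      rw [Subgroup.inf_relIndex_right, hrelT] at e2
      exact ⟨15, by omega⟩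
    exact T.not_dvd_index (dvd_trans h hsup)

/-- The involution case. -/
theorem of_involution (hu2 : u * u = 1) :
    IsMulCommutative K ∧ Odd (Nat.card K) ∧ orderOf u = 2 := by
  have := C.normal
  have : Fact (Nat.Prime 2) := ⟨Nat.prime_two⟩
  have huinv : u⁻¹ = u := inv_eq_of_mul_eq_one_left hu2
  have hinvol : ∀ x : G, x ∉ K → x * x ∈ K → x * x = 1 := fun x hx hxx => by
    obtain ⟨c, rfl⟩ := isConj_iff.mp (C.fusion x hx hxx)
    rw [show c * u * c⁻¹ * (c * u * c⁻¹) = c * (u * u) * c⁻¹ by group, hu2, mul_one,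
      mul_inv_cancel]
  have hinv : ∀ k ∈ K, u * k * u⁻¹ = k⁻¹ := fun k hk => by
    have h1 : u * k ∉ K := fun h => C.not_mem ((Subgroup.mul_mem_cancel_right K hk).mp h)
    have h2 : u * k * (u * k) ∈ K := by
      rw [show u * k * (u * k) = (u * k * u⁻¹) * (u * u) * k by group, hu2, mul_one]
      exact mul_mem (C.normal.conj_mem k hk u) hk
    have h3 := hinvol _ h1 h2
    rw [huinv, eq_inv_iff_mul_eq_one]
    rw [← h3]; group
  have hab : IsMulCommutative K := ⟨⟨fun a b => Subtype.ext (by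
    have e := hinv _ (mul_mem a.2 b.2)
    rw [show u * ((a : G) * b) * u⁻¹ = (u * a * u⁻¹) * (u * b * u⁻¹) by group, hinv _ a.2,
      hinv _ b.2, ← mul_inv_rev, inv_inj] at e
    exact e.symm)⟩⟩
  refine ⟨hab, ?_, orderOf_eq_prime (by rw [sq, hu2]) (fun e => C.not_mem (e ▸ K.one_mem))⟩
  rw [← Nat.not_even_iff_odd, even_iff_two_dvd]
  intro h2
  obtain ⟨z', hz'⟩ := exists_prime_orderOf_dvd_card' 2 h2
  set z : G := (z' : G) with hz
  have hzo : orderOf z = 2 := by rw [hz, Subgroup.orderOf_coe, hz']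
  have hz1 : z ≠ 1 := fun e => by rw [e, orderOf_one] at hzo; omega
  have hz2 : z⁻¹ = z := inv_eq_of_mul_eq_one_left (by rw [← sq, ← hzo, pow_orderOf_eq_one])
  -- `u` centralizes `K`
  set Cu := Subgroup.centralizer (K : Set G) with hCu
  have hCun : Cu.Normal := by rw [hCu]; infer_instance
  have hconjK : ∀ c : G, ∀ k ∈ K, (c * u * c⁻¹) * k * (c * u * c⁻¹)⁻¹ = k⁻¹ := fun c k hk => by
    have h := hinv (c⁻¹ * k * c) (by simpa using C.normal.conj_mem k hk c⁻¹)
    rw [show c * u * c⁻¹ * k * (c * u * c⁻¹)⁻¹ = c * (u * (c⁻¹ * k * c) * u⁻¹) * c⁻¹ by group, h]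
    group
  have hmod : ∀ c : G, u⁻¹ * (c * u * c⁻¹) ∈ Cu := fun c => by
    rw [hCu, Subgroup.mem_centralizer_iff]
    intro k hk
    have h1 := hconjK c k hk
    have h2 := hinv k hk
    rw [← h2, mul_inv_eq_iff_eq_mul] at h1
    calc k * (u⁻¹ * (c * u * c⁻¹)) = u⁻¹ * (u * k * u⁻¹ * (c * u * c⁻¹)) := by group
      _ = u⁻¹ * (c * u * c⁻¹) * k := by rw [← h1]; group
  set M := (Subgroup.center (G ⧸ Cu)).comap (QuotientGroup.mk' Cu) with hM
  have hMn : M.Normal := by rw [hM]; infer_instance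
  have huM : u ∈ M := by
    rw [hM, Subgroup.mem_comap, Subgroup.mem_center_iff]
    intro y
    induction y using QuotientGroup.induction_on with
    | _ g =>
      show ((g * u : G) : G ⧸ Cu) = ((u * g : G) : G ⧸ Cu)
      symm
      rw [QuotientGroup.eq, show (u * g)⁻¹ * (g * u) = g⁻¹ * (u⁻¹ * (g * u * g⁻¹)) * g by group]
      simpa using hCun.conj_mem _ (hmod g) g⁻¹
  have hMtop : M = ⊤ := by
    rcases C.eq_or_top (M ⊔ K) le_sup_right with e | e
    · exact absurd (e ▸ Subgroup.mem_sup_left huM : u ∈ K) C.not_mem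
    · have hcomm : commutator G ≤ M := by
        refine Subgroup.Normal.quotient_commutative_iff_commutator_le.mp ⟨⟨fun a b => ?_⟩⟩
        have hsurj : ∀ y : G ⧸ M, ∃ k ∈ K, ((k : G) : G ⧸ M) = y := fun y => by
          induction y using QuotientGroup.induction_on with
          | _ g =>
            have hg : g ∈ M ⊔ K := e ▸ Subgroup.mem_top g
            rw [← SetLike.mem_coe, Subgroup.normal_mul] at hg
            obtain ⟨m, hm, k, hk, rfl⟩ := hg
            exact ⟨k, hk, by
              rw [QuotientGroup.mk_mul, (QuotientGroup.eq_one_iff m).mpr hm, one_mul]⟩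
        obtain ⟨a', ha, rfl⟩ := hsurj a
        obtain ⟨b', hb, rfl⟩ := hsurj b
        rw [← QuotientGroup.mk_mul, ← QuotientGroup.mk_mul,
          show a' * b' = b' * a' from congrArg Subtype.val (hab.is_comm.comm ⟨a', ha⟩ ⟨b', hb⟩)]
      exact top_le_iff.mp (C.perfect ▸ hcomm)
  have hCtop : Cu = ⊤ := by
    refine top_le_iff.mp (C.perfect ▸
      Subgroup.Normal.quotient_commutative_iff_commutator_le.mp ⟨⟨fun a b => ?_⟩⟩)
    induction b using QuotientGroup.induction_on with
    | _ g =>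
      have : g ∈ M := hMtop ▸ Subgroup.mem_top g
      exact Subgroup.mem_center_iff.mp this a
  have hKC : ∀ k ∈ K, u * k = k * u := fun k hk =>
    ((Subgroup.mem_centralizer_iff.mp (hCtop ▸ Subgroup.mem_top u : u ∈ Cu)) k hk).symm
  have hK2 : ∀ k ∈ K, k * k = 1 := fun k hk => by
    have := hinv k hk
    rw [hKC k hk, mul_inv_cancel_right] at this
    exact eq_inv_iff_mul_eq_one.mp this
  have hKle : K ≤ Subgroup.centralizer ({u} : Set G) := fun k hk =>
    Subgroup.mem_centralizer_singleton_iff.mpr (hKC k hk).symm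
  have hKcard : Nat.card K = 2 := by
    have hd := Subgroup.card_dvd_of_le hKle
    rw [C.card_cent] at hd
    have hle := Nat.le_of_dvd (by norm_num) hd
    have hne : Nat.card K ≠ 4 := fun e => C.not_mem (by
      rw [Subgroup.eq_of_le_of_card_ge hKle (by rw [e, C.card_cent])]
      exact Subgroup.mem_centralizer_singleton_iff.mpr rfl)
    obtain ⟨r, hr⟩ := h2
    have := Nat.card_pos (α := K)
    omega
  obtain ⟨T, hT⟩ := C.exists_sylow
  obtain ⟨huT, hrel, -⟩ := hT (by rw [show (4 : ℕ) = 2 * 2 from rfl, pow_mul, sq u, hu2, one_pow])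
  have hexp : ∀ x ∈ (T : Subgroup G), x * x = 1 := by
    intro x hx
    by_cases hxK : x ∈ K
    · exact hK2 x hxK
    · obtain ⟨j, hj⟩ := T.isPGroup' ⟨x, hx⟩
      exact hinvol x hxK (C.sq_mem_of_two_element (j := j) (congrArg Subtype.val hj))
  have hTle : (T : Subgroup G) ≤ Subgroup.centralizer ({u} : Set G) := fun x hx => by
    rw [Subgroup.mem_centralizer_singleton_iff]
    have e := hexp _ (mul_mem hx huT)
    calc x * u = x * u * ((u * x) * (u * x)) := by rw [hexp _ (mul_mem huT hx), mul_one]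
      _ = x * (u * u) * x * (u * x) := by group
      _ = u * x := by rw [hu2, mul_one, hexp x hx, one_mul]
  have hzT : z ∈ (T : Subgroup G) := by
    obtain ⟨S', hS'⟩ : ∃ S' : Sylow 2 G, z ∈ (S' : Subgroup G) := by
      obtain ⟨S', hS'⟩ := (IsPGroup.of_card (p := 2) (n := 1) (G := Subgroup.zpowers z)
        (by rw [Nat.card_zpowers, hzo, pow_one])).exists_le_sylow
      exact ⟨S', hS' (Subgroup.mem_zpowers z)⟩
    obtain ⟨c, hc⟩ := MulAction.exists_smul_eq G S' T
    have hzc : c * z * c⁻¹ = z := by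
      have hm : c * z * c⁻¹ ∈ K := C.normal.conj_mem z z'.2 c
      have hne : c * z * c⁻¹ ≠ 1 := by rw [Ne, conj_eq_one_iff]; exact hz1
      have huniq := Nat.card_eq_two_iff' (⟨1, K.one_mem⟩ : K)
      have := (huniq.mp hKcard).unique (y₁ := ⟨_, hm⟩) (y₂ := ⟨z, z'.2⟩)
        (fun e => hne (congrArg Subtype.val e)) (fun e => hz1 (congrArg Subtype.val e))
      exact congrArg Subtype.val this
    rw [← hc, ← hzc, Sylow.coe_subgroup_smul]
    exact Subgroup.smul_mem_pointwise_smul z (MulAut.conj c) _ hS'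
  have hK_T : K ≤ (T : Subgroup G) := fun k hk => by
    by_cases hk1 : k = 1
    · rw [hk1]; exact one_mem _
    · have huniq := Nat.card_eq_two_iff' (⟨1, K.one_mem⟩ : K)
      have := (huniq.mp hKcard).unique (y₁ := ⟨k, hk⟩) (y₂ := ⟨z, z'.2⟩)
        (fun e => hk1 (congrArg Subtype.val e)) (fun e => hz1 (congrArg Subtype.val e))
      rw [show k = z from congrArg Subtype.val this]
      exact hzT
  have h8 : Nat.card (T : Subgroup G) = 8 := by
    rw [← Subgroup.relIndex_bot_left, ← Subgroup.relIndex_mul_relIndex ⊥ K _ bot_le hK_T,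
      Subgroup.relIndex_bot_left, hKcard, hrel]
  have := Nat.le_of_dvd (by norm_num) (C.card_cent ▸ Subgroup.card_dvd_of_le hTle)
  omega

/-- The case of an element of order four. -/
theorem of_order_four (hu2 : u * u ≠ 1) :
    orderOf u = 4 ∧ IsMulCommutative (Cfsg.oddCore G) ∧
      Nonempty (G ⧸ Cfsg.oddCore G ≃* Matrix.SpecialLinearGroup (Fin 2) (ZMod 5)) := by
  have := C.normal
  have : Fact (Nat.Prime 2) := ⟨Nat.prime_two⟩
  have huC : u ∈ Subgroup.centralizer ({u} : Set G) :=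
    Subgroup.mem_centralizer_singleton_iff.mpr rfl
  have h4 : orderOf u = 4 := by
    have hd := Subgroup.orderOf_dvd_natCard _ huC
    rw [C.card_cent] at hd
    obtain ⟨i, hi, he⟩ := (Nat.dvd_prime_pow Nat.prime_two).mp (show orderOf u ∣ 2 ^ 2 from hd)
    have h2' : ¬ orderOf u ∣ 2 := fun h => hu2 (by rw [← sq]; exact orderOf_dvd_iff_pow_eq_one.mp h)
    rcases (by omega : i = 0 ∨ i = 1 ∨ i = 2) with rfl | rfl | rfl
    · exact absurd (by rw [he]; norm_num) h2'
    · exact absurd (by rw [he]; norm_num) h2'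
    · rw [he]; norm_num
  have hu4 : u ^ 4 = 1 := h4 ▸ pow_orderOf_eq_one u
  have hCu : ∀ x, x * u = u * x → ∃ n : ℕ, n < 4 ∧ x = u ^ n := by
    intro x hx
    have hle : Subgroup.zpowers u ≤ Subgroup.centralizer ({u} : Set G) :=
      Subgroup.zpowers_le.mpr huC
    have heq := Subgroup.eq_of_le_of_card_ge hle (by rw [C.card_cent, Nat.card_zpowers, h4])
    have hm : x ∈ Subgroup.zpowers u := heq ▸ Subgroup.mem_centralizer_singleton_iff.mpr hx
    obtain ⟨n, hn⟩ := (mem_powers_iff_mem_zpowers (x := u)).mpr hm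
    exact ⟨n % 4, Nat.mod_lt _ (by norm_num), by rw [← pow_eq_pow_mod _ hu4]; exact hn.symm⟩
  set z := u * u with hz
  have hCK : ∀ x ∈ K, x * u = u * x → x = 1 ∨ x = z := by
    intro x hx hxu
    obtain ⟨n, hn, rfl⟩ := hCu x hxu
    rcases (by omega : n = 0 ∨ n = 1 ∨ n = 2 ∨ n = 3) with rfl | rfl | rfl | rfl
    · left; rw [pow_zero]
    · rw [pow_one] at hx; exact absurd hx C.not_mem
    · right; rw [hz, sq]
    · refine absurd ((Subgroup.mul_mem_cancel_right K C.sq_mem).mp ?_) C.not_mem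
      rw [← mul_assoc, ← sq, ← pow_succ]
      exact hx
  -- the same holds for all conjugates
  have hconj : ∀ v : G, v ∉ K → v * v ∈ K → (∀ x ∈ K, x * v = v * x → x = 1 ∨ x = v * v) ∧
      v * v ≠ 1 ∧ Nat.card (Subgroup.centralizer ({v} : Set G)) = 4 := by
    intro v hv hvv
    obtain ⟨c, hc⟩ := isConj_iff.mp (C.fusion v hv hvv)
    refine ⟨fun x hx hxv => ?_, fun e => hu2 ?_, ?_⟩
    · subst hc
      have hx' : c⁻¹ * x * c ∈ K := by simpa using C.normal.conj_mem x hx c⁻¹
      have := hCK _ hx' (by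
        have := congrArg (fun y => c⁻¹ * y * c) hxv
        simpa [mul_assoc] using this)
      rcases this with e | e
      · left; rw [show x = c * (c⁻¹ * x * c) * c⁻¹ by group, e, mul_one, mul_inv_cancel]
      · right; rw [show x = c * (c⁻¹ * x * c) * c⁻¹ by group, e, hz]; group
    · subst hc
      rw [show c * u * c⁻¹ * (c * u * c⁻¹) = c * (u * u) * c⁻¹ by group, conj_eq_one_iff] at e
      exact e
    · subst hc
      rw [← C.card_cent]
      refine (Nat.card_congr (Equiv.subtypeEquiv (MulAut.conj c).toEquiv fun x => ?_)).symm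
      show x ∈ Subgroup.centralizer {u} ↔ c * x * c⁻¹ ∈ Subgroup.centralizer {c * u * c⁻¹}
      rw [Subgroup.mem_centralizer_singleton_iff, Subgroup.mem_centralizer_singleton_iff]
      rw [show c * x * c⁻¹ * (c * u * c⁻¹) = c * (x * u) * c⁻¹ by group,
        show c * u * c⁻¹ * (c * x * c⁻¹) = c * (u * x) * c⁻¹ by group, mul_left_inj, mul_right_inj]
  obtain ⟨T, hT⟩ := C.exists_sylow
  obtain ⟨huT, hrel, hoddrel⟩ := hT hu4
  set P := K ⊓ (T : Subgroup G) with hP
  have hzP : z ∈ P := Subgroup.mem_inf.mpr ⟨C.sq_mem, mul_mem huT huT⟩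
  have hTout : ∀ v ∈ (T : Subgroup G), v ∉ K → v * v ∈ K := fun v hv _ => by
    obtain ⟨j, hj⟩ := T.isPGroup' ⟨v, hv⟩
    exact C.sq_mem_of_two_element (j := j) (congrArg Subtype.val hj)
  -- `z` is central in `T`
  have hzT : ∀ t ∈ (T : Subgroup G), t * z = z * t := by
    set P' := P.subgroupOf (T : Subgroup G) with hP'
    have hP'n : P'.Normal := by
      refine ⟨fun x hx t => ?_⟩
      rw [hP', Subgroup.mem_subgroupOf, hP, Subgroup.mem_inf] at hx ⊢
      exact ⟨C.normal.conj_mem _ hx.1 _, SetLike.coe_mem _⟩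
    have hnt : Nontrivial P' := ⟨⟨⟨⟨z, hzP.2⟩, Subgroup.mem_subgroupOf.mpr hzP⟩, 1, fun e =>
      hu2 (congrArg (fun y : P' => ((y : (T : Subgroup G)) : G)) e)⟩⟩
    obtain ⟨⟨c, hcm⟩, hc1'⟩ := Subgroup.ne_bot_iff_exists_ne_one.1
      (CfsgLib.PGroup.inf_center_ne_bot T.isPGroup' P' ((Subgroup.nontrivial_iff_ne_bot P').mp hnt))
    have hc1 : c ≠ 1 := fun e => hc1' (Subtype.ext e)
    have hc := (Subgroup.mem_inf.mp hcm).symm
    have hcu : (c : G) * u = u * c :=
      (congrArg Subtype.val (Subgroup.mem_center_iff.mp hc.1 ⟨u, huT⟩)).symm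
    rcases hCK c (Subgroup.mem_inf.mp (Subgroup.mem_subgroupOf.mp hc.2)).1 hcu with e | e
    · exact absurd (Subtype.ext e) hc1
    · intro t ht
      rw [← e]
      exact congrArg Subtype.val (Subgroup.mem_center_iff.mp hc.1 ⟨t, ht⟩)
  have hsqz : ∀ v ∈ (T : Subgroup G), v ∉ K → v * v = z := fun v hv hvK => by
    rcases (hconj v hvK (hTout v hv hvK)).1 z C.sq_mem (hzT v hv).symm with e | e
    · exact absurd e hu2
    · exact e.symm
  have hinvP : ∀ v ∈ (T : Subgroup G), v ∉ K → ∀ p ∈ P, v * p * v⁻¹ = p⁻¹ := by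
    intro v hv hvK p hp
    obtain ⟨hpK, hpT⟩ := Subgroup.mem_inf.mp hp
    have h1 := hsqz _ (mul_mem hv hpT) (fun h => hvK ((Subgroup.mul_mem_cancel_right K hpK).mp h))
    rw [← hsqz v hv hvK] at h1
    have h2 : p * v * p = v := mul_left_cancel (a := v) (by rw [← h1]; group)
    calc v * p * v⁻¹ = p⁻¹ * (p * v * p) * v⁻¹ := by group
      _ = p⁻¹ := by rw [h2]; group
  -- a third coset
  obtain ⟨b, hbT, hbK, hbuK⟩ : ∃ b ∈ (T : Subgroup G), b ∉ K ∧ u * b ∉ K := by
    by_contra hcon
    push Not at hcon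
    have hle : K.relIndex (T : Subgroup G) ≤ 2 := by
      have hsub : (T : Subgroup G).map (QuotientGroup.mk' K) ≤
          Subgroup.zpowers ((u : G) : G ⧸ K) := by
        rintro _ ⟨x, hx, rfl⟩
        by_cases hxK : x ∈ K
        · rw [QuotientGroup.mk'_apply, (QuotientGroup.eq_one_iff x).mpr hxK]
          exact one_mem _
        · have h := (QuotientGroup.eq_one_iff (u * x)).mpr (hcon x hx hxK)
          rw [QuotientGroup.mk_mul, mul_eq_one_iff_inv_eq] at h
          rw [QuotientGroup.mk'_apply, ← h]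
          exact inv_mem (Subgroup.mem_zpowers _)
      have h2 : Nat.card (Subgroup.zpowers ((u : G) : G ⧸ K)) ≤ 2 := by
        rw [Nat.card_zpowers]
        refine Nat.le_of_dvd (by norm_num) (orderOf_dvd_of_pow_eq_one ?_)
        rw [sq, ← QuotientGroup.mk_mul]
        exact (QuotientGroup.eq_one_iff _).mpr C.sq_mem
      have h3 := Subgroup.card_dvd_of_le hsub
      have h4' := Nat.le_of_dvd Nat.card_pos h3
      have h5 := Subgroup.relIndex_ker (QuotientGroup.mk' K) (K := (T : Subgroup G))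
      rw [QuotientGroup.ker_mk'] at h5
      omega
    omega
  have hubT : u * b ∈ (T : Subgroup G) := mul_mem huT hbT
  have hP2 : ∀ p ∈ P, p = 1 ∨ p = z := by
    intro p hp
    obtain ⟨hpK, hpT⟩ := Subgroup.mem_inf.mp hp
    have e1 := hinvP u huT C.not_mem p hp
    have e2 := hinvP b hbT hbK p hp
    have e3 := hinvP _ hubT hbuK p hp
    rw [show u * b * p * (u * b)⁻¹ = u * (b * p * b⁻¹) * u⁻¹ by group, e2,
      show u * p⁻¹ * u⁻¹ = (u * p * u⁻¹)⁻¹ by group, e1, inv_inv] at e3
    refine hCK p hpK ?_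
    rw [← e3, mul_inv_eq_iff_eq_mul] at e1
    exact e1.symm
  have hPcard : Nat.card P = 2 := by
    refine (Nat.card_eq_two_iff' (⟨1, P.one_mem⟩ : P)).mpr ⟨⟨z, hzP⟩,
      fun e => hu2 (congrArg Subtype.val e), fun y hy => ?_⟩
    rcases hP2 y y.2 with e | e
    · exact absurd (Subtype.ext e) hy
    · exact Subtype.ext e
  have hT8 : Nat.card (T : Subgroup G) = 8 := by
    rw [← Subgroup.relIndex_bot_left,
      ← Subgroup.relIndex_mul_relIndex ⊥ P _ bot_le inf_le_right,
      Subgroup.relIndex_bot_left, hPcard, hP, Subgroup.inf_relIndex_right, hrel]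
  have hub : u * b = b * u⁻¹ := by
    have h1 := hsqz _ hubT hbuK
    rw [← hsqz b hbT hbK] at h1
    have h2 : u * b * u = b := mul_right_cancel (b := b) (by rw [← h1]; group)
    calc u * b = u * b * u * u⁻¹ := by group
      _ = b * u⁻¹ := by rw [h2]
  have hQ : Nonempty ((T : Subgroup G) ≃* QuaternionGroup 2) :=
    equiv_quaternion hu4 (by rw [sq]; exact hu2) (by rw [sq]; exact hsqz b hbT hbK) hub
      (fun n e => by
        rcases Nat.even_or_odd' n with ⟨k, rfl | rfl⟩
        · exact hbK (e ▸ by rw [pow_mul, sq]; exact pow_mem C.sq_mem k)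
        · exact hbuK (e ▸ by
            rw [← pow_succ', show 2 * k + 1 + 1 = 2 * (k + 1) by ring, pow_mul, sq]
            exact pow_mem C.sq_mem _))
      (T : Subgroup G) huT hbT hT8
  -- the odd part of `K`
  set P₀ := (T : Subgroup G).subgroupOf K with hP₀
  have hP₀card : Nat.card P₀ = 2 := by
    rw [hP₀, ← Subgroup.inf_subgroupOf_left,
      Nat.card_congr (Subgroup.subgroupOfEquivOfLe (inf_le_left : K ⊓ (T : Subgroup G) ≤ K)).toEquiv,
      ← hP, hPcard]
  have hP₀odd : Odd P₀.index := hoddrel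
  have hP₀fac : Nat.card P₀ = 2 ^ (Nat.card K).factorization 2 := by
    rw [← P₀.card_mul_index, hP₀card, Nat.factorization_mul (by norm_num) Subgroup.index_ne_zero_of_finite,
      Finsupp.add_apply, Nat.Prime.factorization_self Nat.prime_two,
      Nat.factorization_eq_zero_of_not_dvd (fun h => (Nat.not_even_iff_odd.mpr hP₀odd)
        (even_iff_two_dvd.mpr h))]
    norm_num
  let S₀ : Sylow 2 K := Sylow.ofCard P₀ hP₀fac
  have hS₀ : (S₀ : Subgroup K) = P₀ := rfl
  have hNC : Subgroup.normalizer ((S₀ : Subgroup K) : Set K) ≤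
      Subgroup.centralizer ((S₀ : Subgroup K) : Set K) := by
    intro n hn
    rw [Subgroup.mem_centralizer_iff]
    intro x hx
    by_cases hx1 : x = 1
    · simp [hx1]
    · have hm : n * x * n⁻¹ ∈ (S₀ : Subgroup K) := (Subgroup.mem_normalizer_iff.mp hn x).mp hx
      have := ((Nat.card_eq_two_iff' (⟨1, P₀.one_mem⟩ : P₀)).mp hP₀card).unique
        (y₁ := ⟨_, hm⟩) (y₂ := ⟨x, hx⟩)
        (fun e => hx1 (conj_eq_one_iff.mp (congrArg Subtype.val e)))
        (fun e => hx1 (congrArg Subtype.val e))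
      exact (mul_inv_eq_iff_eq_mul.mp (congrArg Subtype.val this)).symm
  set τ := MonoidHom.transferSylow S₀ hNC with hτ
  have hcompl := MonoidHom.ker_transferSylow_isComplement' S₀ hNC
  rw [← hτ] at hcompl
  have hO₀card : Nat.card τ.ker = P₀.index := by
    rw [← hS₀]
    have h1 := hcompl.card_mul
    have h2 := (S₀ : Subgroup K).card_mul_index
    have h3 := Nat.card_pos (α := (S₀ : Subgroup K))
    refine Nat.eq_of_mul_eq_mul_right h3 ?_
    rw [h1, mul_comm, h2]
  have hodd_mem : ∀ x : K, Odd (orderOf x) → x ∈ τ.ker := by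
    intro x hx
    rw [MonoidHom.mem_ker]
    refine orderOf_eq_one_iff.mp (Nat.eq_one_of_dvd_coprimes (Nat.coprime_two_right.mpr hx).symm
      ?_ (orderOf_map_dvd _ x))
    exact (orderOf_dvd_natCard (τ x)).trans (dvd_of_eq (show Nat.card (S₀ : Subgroup K) = 2 from hP₀card))
  set O := τ.ker.map K.subtype with hOdef
  have hOcard : Nat.card O = P₀.index := by
    rw [hOdef, Subgroup.card_map_of_injective K.subtype_injective, hO₀card]
  have hOn : O.Normal := ⟨fun x hx g => by
    obtain ⟨y, hy, rfl⟩ := hx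
    have hodd : Odd (orderOf y) :=
      Odd.of_dvd_nat (hO₀card ▸ hP₀odd) (Subgroup.orderOf_dvd_natCard _ hy)
    refine ⟨⟨g * y * g⁻¹, C.normal.conj_mem _ y.2 g⟩, hodd_mem _ ?_, rfl⟩
    rw [← Subgroup.orderOf_coe]
    show Odd (orderOf (g * (y : G) * g⁻¹))
    rw [show g * (y : G) * g⁻¹ = (MulAut.conj g).toMonoidHom (y : G) from rfl,
      orderOf_injective _ (MulAut.conj g).injective, Subgroup.orderOf_coe]
    exact hodd⟩
  have hcopO : (Nat.card O).Coprime 2 := Nat.coprime_two_right.mpr (hOcard ▸ hP₀odd)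
  have hOeq : Cfsg.oddCore G = O := by
    refine le_antisymm (fun x hx => ?_) (le_pPrimeCore (p := 2) hcopO)
    have hxK := C.oddCore_le hx
    refine ⟨⟨x, hxK⟩, hodd_mem _ ?_, rfl⟩
    have hcop : (Nat.card (Cfsg.oddCore G)).Coprime 2 := coprime_card_pPrimeCore 2
    rw [← Subgroup.orderOf_coe]
    exact Odd.of_dvd_nat (Nat.coprime_two_right.mp hcop) (Subgroup.orderOf_dvd_natCard _ hx)
  have hO1 : ∀ x ∈ O, ∀ n : ℕ, x ^ 2 ^ n = 1 → x = 1 := fun x hx n hn =>
    orderOf_eq_one_iff.mp (Nat.eq_one_of_dvd_coprimes (Nat.Coprime.pow_right n hcopO)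
      (Subgroup.orderOf_dvd_natCard _ hx) (orderOf_dvd_of_pow_eq_one hn))
  have hfixO : ∀ v ∈ (T : Subgroup G), v ∉ K → ∀ x ∈ O, v * x * v⁻¹ = x → x = 1 := by
    intro v hv hvK x hx hxv
    have hxC : x ∈ Subgroup.centralizer ({v} : Set G) :=
      Subgroup.mem_centralizer_singleton_iff.mpr (mul_inv_eq_iff_eq_mul.mp hxv).symm
    refine hO1 x hx 2 ?_
    have := Subgroup.orderOf_dvd_natCard _ hxC
    rw [(hconj v hvK (hTout v hv hvK)).2.2] at this
    exact orderOf_dvd_iff_pow_eq_one.mp this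
  -- `z` inverts `O`
  have hW : ∀ w ∈ O, z * w * z⁻¹ = w → w = 1 := by
    intro w hw hwz
    set W := O ⊓ Subgroup.centralizer ({z} : Set G) with hWdef
    have hwW : w ∈ W := Subgroup.mem_inf.mpr
      ⟨hw, Subgroup.mem_centralizer_singleton_iff.mpr (mul_inv_eq_iff_eq_mul.mp hwz).symm⟩
    have hinvW : ∀ v ∈ (T : Subgroup G), v ∉ K → ∀ w ∈ W, v * w * v⁻¹ = w⁻¹ := by
      intro v hv hvK
      refine (inverts_of_fpf W v (fun x hx => ?_) (fun x hx => ?_)
        (fun x hx => hfixO v hv hvK x (Subgroup.mem_inf.mp hx).1)).1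
      · obtain ⟨hxO, hxC⟩ := Subgroup.mem_inf.mp hx
        refine Subgroup.mem_inf.mpr ⟨hOn.conj_mem x hxO v, ?_⟩
        rw [Subgroup.mem_centralizer_singleton_iff] at hxC ⊢
        calc v * x * v⁻¹ * z = v * x * (v⁻¹ * z) := by group
          _ = v * (x * z) * v⁻¹ := by rw [hzT _ (inv_mem hv)]; group
          _ = v * z * (x * v⁻¹) := by rw [hxC]; group
          _ = z * (v * x * v⁻¹) := by rw [hzT v hv]; group
      · rw [hsqz v hv hvK]
        exact (Subgroup.mem_centralizer_singleton_iff.mp (Subgroup.mem_inf.mp hx).2).symm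
    have e1 := hinvW u huT C.not_mem w hwW
    have e2 := hinvW b hbT hbK w hwW
    have e3 := hinvW _ hubT hbuK w hwW
    rw [show u * b * w * (u * b)⁻¹ = u * (b * w * b⁻¹) * u⁻¹ by group, e2,
      show u * w⁻¹ * u⁻¹ = (u * w * u⁻¹)⁻¹ by group, e1, inv_inv] at e3
    exact hO1 w hw 1 (by rw [pow_one, sq]; exact eq_inv_iff_mul_eq_one.mp e3)
  have hz4 : z * z = 1 := by rw [hz, ← hu4, ← sq, ← sq, ← pow_mul]
  have hOab : IsMulCommutative O :=
    (inverts_of_fpf O z (fun x hx => hOn.conj_mem x hx z)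
      (fun x _ => by rw [hz4, one_mul, mul_one]) hW).2
  -- the quotient
  have hG120 : Nat.card (G ⧸ O) = 120 := by
    rw [← Subgroup.index_eq_card]
    have h1 := O.card_mul_index
    have h2 := K.card_mul_index
    have h3 := P₀.card_mul_index
    rw [hP₀card, ← hOcard] at h3
    rw [C.index, ← h3] at h2
    have h4 := Nat.card_pos (α := O)
    refine Nat.eq_of_mul_eq_mul_left h4 ?_
    rw [h1, ← h2]; ring
  have hns : ¬ Group.IsSolvable (G ⧸ O) := fun hs => by
    have : Nontrivial (G ⧸ O) := Finite.one_lt_card_iff_nontrivial.mp (by omega)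
    have := Fintype.ofFinite G
    exact (Group.IsSolvable.commutator_lt_top_of_nontrivial (G ⧸ O)).ne
      (commutator_quotient_eq_top C.perfect O)
  set q := QuotientGroup.mk' O with hq
  have hqinj : Function.Injective (q.comp (T : Subgroup G).subtype) := by
    rw [injective_iff_map_eq_one]
    intro x hx
    obtain ⟨j, hj⟩ := T.isPGroup' x
    exact Subtype.ext (hO1 x ((QuotientGroup.eq_one_iff _).mp hx) j (congrArg Subtype.val hj))
  have hSyl : ∀ S : Sylow 2 (G ⧸ O), Nonempty ((S : Subgroup (G ⧸ O)) ≃* QuaternionGroup 2) := by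
    intro S
    obtain ⟨e⟩ := hQ
    let T' := T.mapSurjective (QuotientGroup.mk'_surjective O)
    obtain ⟨g, hg⟩ := MulAction.exists_smul_eq (G ⧸ O) T' S
    let e1 : (T : Subgroup G) ≃* (T' : Subgroup (G ⧸ O)) :=
      (MonoidHom.ofInjective hqinj).trans (MulEquiv.subgroupCongr (by
        rw [MonoidHom.range_comp, Subgroup.range_subtype]; rfl))
    let e2 : (T' : Subgroup (G ⧸ O)) ≃* (S : Subgroup (G ⧸ O)) :=
      (Subgroup.equivSMul (MulAut.conj g) (T' : Subgroup (G ⧸ O))).trans
        (MulEquiv.subgroupCongr (by rw [← hg, Sylow.coe_subgroup_smul]))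
    exact ⟨e2.symm.trans (e1.symm.trans e)⟩
  obtain ⟨eSL⟩ := Cfsg.Agent.S3378.result.1 (G ⧸ O) hG120 hns hSyl
  refine ⟨h4, ?_, ?_⟩
  · rw [hOeq]; exact hOab
  · have : (Cfsg.oddCore G).Normal := Cfsg.pPrimeCore_normal 2 G
    exact ⟨(QuotientGroup.quotientMulEquivOfEq hOeq).trans eSL⟩

end Core

end CfsgLib.CharBlocks.DiffFour
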