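import Cfsg.Agent.Lib.CharBlocks.DiffFour.Kernels

/-!
# The characters that do not vanish at `u`

They are the principal one, two of degree three and one of degree five, all trivial on a normal
subgroup `K` of index sixty; hence `u` has centralizer of order four and all elements mapping onto
involutions modulo `K` are conjugate to `u`.
-/

set_option autoImplicit false

namespace CfsgLib.CharBlocks.DiffFour

open CfsgLib.Char CfsgLib.CharBlocks CfsgLib.CharNormal
open scoped ComplexConjugate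

variable {G : Type*} [Group G] [Fintype G]

theorem sum_sq_le_index (K : Subgroup G) [K.Normal] (T : Finset (Cfsg.IrrCharacter G))
    (hT : ∀ χ ∈ T, ∀ k ∈ K, (χ : G → ℂ) k = (χ : G → ℂ) 1) :
    ∑ χ ∈ T, Cfsg.charDegree (χ : G → ℂ) ^ 2 ≤ K.index := by
  classical
  have := Fintype.ofFinite (G ⧸ K)
  have hsum : ∑ φ : Cfsg.IrrCharacter (G ⧸ K), Cfsg.charDegree (φ : G ⧸ K → ℂ) ^ 2 = K.index := by
    have h := sum_degree_sq (G := G ⧸ K)
    simp_rw [← coe_charDegree_irr, ← Nat.cast_pow] at h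
    rw [Subgroup.index_eq_card]
    exact_mod_cast h
  let e : {χ // χ ∈ T} → Cfsg.IrrCharacter (G ⧸ K) :=
    fun χ => (inflEquiv K).symm ⟨χ.1, hT χ.1 χ.2⟩
  have he : Function.Injective e := fun a b h => by
    have := congrArg Subtype.val ((inflEquiv K).symm.injective h)
    exact Subtype.ext this
  have hd : ∀ χ, Cfsg.charDegree (e χ : G ⧸ K → ℂ) = Cfsg.charDegree (χ.1 : G → ℂ) := fun χ => by
    have h := inflEquiv_apply K (e χ) 1
    simp only [e, Equiv.apply_symm_apply, QuotientGroup.mk_one] at h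
    have := coe_charDegree_irr χ.1
    rw [h, ← coe_charDegree_irr] at this
    exact_mod_cast this.symm
  rw [← hsum, ← Finset.sum_coe_sort]
  calc ∑ χ : {χ // χ ∈ T}, Cfsg.charDegree (χ.1 : G → ℂ) ^ 2
      = ∑ φ ∈ Finset.univ.image e, Cfsg.charDegree (φ : G ⧸ K → ℂ) ^ 2 := by
        rw [Finset.sum_image fun a _ b _ h => he h]
        exact Finset.sum_congr rfl fun χ _ => by rw [hd]
    _ ≤ _ := Finset.sum_le_sum_of_subset (Finset.subset_univ _)

namespace Setting

variable {u : G} (S : Setting G u)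

include S

theorem exists_core :
    ∃ K : Subgroup G, K.Normal ∧ K.index = 60 ∧ u ∉ K ∧ u * u ∈ K ∧
      Nat.card (Subgroup.centralizer ({u} : Set G)) = 4 ∧
      ∀ g : G, g ∉ K → g * g ∈ K → IsConj u g := by
  classical
  obtain ⟨ψ, hψ, h3, hu, hreal⟩ := S.exists_real_three
  obtain ⟨P, hξ⟩ := S.xi_facts hψ h3 hu hreal
  set K := charKer (isCharacter_of_isIrr hψ) with hK
  have hKn : K.Normal := charKer_normal _
  have hidx : K.index = 60 := index_charKer S.perfect hψ h3 hreal
  have hmem : ∀ g, g ∈ K ↔ ψ g = 3 := fun g => by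
    show ψ g = ψ 1 ↔ _
    rw [h3]
  have huK : u ∉ K := by rw [hmem, hu]; norm_num
  let D : Cfsg.IrrCharacter G → ℕ := fun χ => Cfsg.charDegree (χ : G → ℂ)
  have hD : ∀ χ : Cfsg.IrrCharacter G, (χ : G → ℂ) 1 = (D χ : ℂ) := fun χ =>
    (coe_charDegree_irr χ).symm
  set N := (Finset.univ.erase (irrOne (G := G))).filter
    (fun χ : Cfsg.IrrCharacter G => (χ : G → ℂ) u ≠ 0) with hN
  have hN' : ∀ χ ∈ N, (χ : G → ℂ) u = (D χ : ℂ) - 4 ∧ (D χ = 3 ∨ 5 ≤ D χ) := by
    intro χ hχ
    rw [hN, Finset.mem_filter] at hχ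
    have hne : (χ : G → ℂ) ≠ fun _ => (1 : ℂ) := fun e =>
      Finset.ne_of_mem_erase hχ.1 (Subtype.ext e)
    have hv : (χ : G → ℂ) u = (D χ : ℂ) - 4 := by
      rcases S.value χ χ.2 hne with e | e
      · rw [← hD]; linear_combination -e
      · exact absurd e hχ.2
    refine ⟨hv, ?_⟩
    have h0 : 0 < D χ := charDegree_pos χ.2
    have h1 : D χ ≠ 1 := fun e => hne (linear_eq_one S.perfect χ.2 (by rw [hD, e, Nat.cast_one]))
    have h2 : D χ ≠ 2 := fun e => S.no_two χ.2 (by rw [hD, e]; norm_num) (by rw [hv, e]; norm_num)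
    have h4 : D χ ≠ 4 := fun e => hχ.2 (by rw [hv, e]; norm_num)
    omega
  have hsumN : ∑ χ ∈ N, (D χ : ℤ) * ((D χ : ℤ) - 4) = -1 := by
    have h := sum_degree_mul_apply (G := G) u
    rw [if_neg S.ne_one, ← Finset.add_sum_erase _ _ (Finset.mem_univ (irrOne (G := G)))] at h
    have hone : ((irrOne : Cfsg.IrrCharacter G) : G → ℂ) = fun _ => (1 : ℂ) := rfl
    have hrest : ∑ χ ∈ Finset.univ.erase (irrOne (G := G)), (χ : G → ℂ) 1 * (χ : G → ℂ) u =
        ∑ χ ∈ N, (χ : G → ℂ) 1 * (χ : G → ℂ) u := by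
      rw [hN]
      exact (Finset.sum_filter_of_ne (p := fun χ : Cfsg.IrrCharacter G => (χ : G → ℂ) u ≠ 0) fun χ _ h' => fun e => h' (by rw [e, mul_zero])).symm
    rw [hrest, hone, Finset.sum_congr rfl fun χ hχ => by rw [hD, (hN' χ hχ).1]] at h
    have h' : (1 : ℂ) * 1 + ((∑ χ ∈ N, (D χ : ℤ) * ((D χ : ℤ) - 4) : ℤ) : ℂ) = 0 := by
      push_cast
      exact h
    have h'' : (1 : ℤ) * 1 + ∑ χ ∈ N, (D χ : ℤ) * ((D χ : ℤ) - 4) = 0 := by exact_mod_cast h'
    linarith
  set T := N.filter (fun χ => D χ = 3) with hT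
  set R := N.filter (fun χ => ¬ D χ = 3) with hR
  let ξ : Cfsg.IrrCharacter G := ⟨xi ψ, hξ⟩
  have hξD : D ξ = 5 := charDegree_eq P.deg
  have hξR : ξ ∈ R := by
    rw [hR, hN, Finset.mem_filter, Finset.mem_filter, Finset.mem_erase]
    refine ⟨⟨⟨fun e => ?_, Finset.mem_univ _⟩, ?_⟩, by omega⟩
    · have h' : xi ψ 1 = 1 := congrFun (congrArg Subtype.val e) 1
      rw [P.deg] at h'
      norm_num at h'
    · show xi ψ u ≠ 0
      rw [P.val]; norm_num
  have hTfacts : ∀ χ ∈ T, (χ : G → ℂ) 1 = 3 ∧ (χ : G → ℂ) u = -1 ∧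
      ∀ g, (χ : G → ℂ) g = 3 ↔ g ∈ K := by
    intro χ hχ
    rw [hT, Finset.mem_filter] at hχ
    have e3 : (χ : G → ℂ) 1 = 3 := by rw [hD, hχ.2]; norm_num
    have eu : (χ : G → ℂ) u = -1 := by rw [(hN' χ hχ.1).1, hχ.2]; norm_num
    refine ⟨e3, eu, ?_⟩
    set L := charKer (isCharacter_of_isIrr χ.2) with hL
    have hLn : L.Normal := charKer_normal _
    have hle : K ≤ L := fun k hk =>
      (S.trivial_on_kernel hψ h3 hu hreal χ.2 e3 eu k ((hmem k).mp hk)).trans e3.symm
    have hdvd : L.index ∣ 60 := by rw [← hidx]; exact Subgroup.index_dvd_of_le hle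
    rcases index_of_perfect S.perfect L hdvd with htop | h60
    · exfalso
      have : u ∈ L := htop ▸ Subgroup.mem_top u
      have h' : (χ : G → ℂ) u = (χ : G → ℂ) 1 := this
      rw [eu, e3] at h'
      norm_num at h'
    · have hLK : L = K := by
        refine (Subgroup.eq_of_le_of_card_ge hle ?_).symm
        refine le_of_eq (Nat.eq_of_mul_eq_mul_right (by norm_num : 0 < 60) ?_)
        have h1 := L.card_mul_index
        have h2 := K.card_mul_index
        rw [h60] at h1
        rw [hidx] at h2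
        omega
      intro g
      rw [← hLK, ← e3]
      rfl
  have hbound : 9 * T.card + 26 ≤ 60 := by
    have hle := sum_sq_le_index K (insert (irrOne (G := G)) (insert ξ T)) (by
      intro χ hχ k hk
      rw [Finset.mem_insert, Finset.mem_insert] at hχ
      rcases hχ with rfl | rfl | hχ
      · rfl
      · show xi ψ k = xi ψ 1
        rw [(S.xi_ker hψ h3 hu hreal k).mpr ((hmem k).mp hk), P.deg]; norm_num
      · rw [((hTfacts χ hχ).2.2 k).mpr hk, (hTfacts χ hχ).1])
    have h1 : ξ ∉ T := by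
      rw [hT, Finset.mem_filter, hξD]; omega
    have h2 : irrOne ∉ insert ξ T := by
      rw [Finset.mem_insert, hT, Finset.mem_filter, hN, Finset.mem_filter, Finset.mem_erase]
      rintro (e | e)
      · have := congrArg D e
        rw [hξD] at this
        have h' : D (irrOne (G := G)) = 1 := charDegree_one
        omega
      · exact e.1.1.1 rfl
    rw [Finset.sum_insert h2, Finset.sum_insert h1, hidx,
      show Cfsg.charDegree (ξ : G → ℂ) = 5 from hξD,
      show Cfsg.charDegree ((irrOne : Cfsg.IrrCharacter G) : G → ℂ) = 1 from charDegree_one,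
      Finset.sum_congr rfl (fun χ (hχ : χ ∈ T) =>
        show Cfsg.charDegree (χ : G → ℂ) ^ 2 = 9 by
          rw [show Cfsg.charDegree (χ : G → ℂ) = 3 from (Finset.mem_filter.mp hχ).2]; norm_num),
      Finset.sum_const, smul_eq_mul] at hle
    omega
  have hsplit : (-3 : ℤ) * T.card +
      (5 + ∑ χ ∈ R.erase ξ, (D χ : ℤ) * ((D χ : ℤ) - 4)) = -1 := by
    have h := hsumN
    rw [← Finset.sum_filter_add_sum_filter_not N (fun χ => D χ = 3), ← hT, ← hR,
      ← Finset.add_sum_erase _ _ hξR, hξD,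
      Finset.sum_congr rfl (fun χ (hχ : χ ∈ T) =>
        show (D χ : ℤ) * ((D χ : ℤ) - 4) = -3 by rw [(Finset.mem_filter.mp hχ).2]; norm_num),
      Finset.sum_const, nsmul_eq_mul] at h
    push_cast at h ⊢
    linarith
  have hRge : ((R.erase ξ).card : ℤ) * 5 ≤ ∑ χ ∈ R.erase ξ, (D χ : ℤ) * ((D χ : ℤ) - 4) := by
    rw [← nsmul_eq_mul, ← Finset.sum_const]
    refine Finset.sum_le_sum fun χ hχ => ?_
    have hχR := Finset.mem_filter.mp (Finset.mem_of_mem_erase hχ)
    rcases (hN' χ hχR.1).2 with e | e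
    · exact absurd e hχR.2
    · have : (5 : ℤ) ≤ D χ := by exact_mod_cast e
      nlinarith
  have hR0 : (R.erase ξ).card = 0 := by
    have : T.card ≤ 3 := by omega
    omega
  have hTc : T.card = 2 := by
    rw [Finset.card_eq_zero.mp hR0, Finset.sum_empty] at hsplit
    omega
  have hR1 : R = {ξ} := by
    rw [← Finset.insert_erase hξR, Finset.card_eq_zero.mp hR0]
    rfl
  have horth : ∀ g : G, ψ g = -1 → g ∉ K → g * g ∈ K →
      ∑ χ : Cfsg.IrrCharacter G, (χ : G → ℂ) u * conj ((χ : G → ℂ) g) = 4 := by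
    intro g hg hgK hgg
    rw [← Finset.add_sum_erase _ _ (Finset.mem_univ (irrOne (G := G))),
      show ((irrOne : Cfsg.IrrCharacter G) : G → ℂ) = fun _ => (1 : ℂ) from rfl,
      ← Finset.sum_filter_of_ne (p := fun χ : Cfsg.IrrCharacter G => (χ : G → ℂ) u ≠ 0)
        (fun χ _ h' => fun e => h' (by rw [e, zero_mul])), ← hN,
      ← Finset.sum_filter_add_sum_filter_not N (fun χ => D χ = 3), ← hT, ← hR, hR1,
      Finset.sum_singleton,
      Finset.sum_congr rfl (fun χ (hχ : χ ∈ T) =>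
        show (χ : G → ℂ) u * conj ((χ : G → ℂ) g) = 1 by
          obtain ⟨e3, eu, hk⟩ := hTfacts χ hχ
          rcases deg_three_value S.perfect (isCharacter_of_isIrr χ.2) e3 ((hk _).mpr hgg) with
            e | e
          · rw [eu, e, map_neg, map_one]; norm_num
          · exact absurd ((hk g).mp e) hgK),
      Finset.sum_const, hTc]
    show (1 : ℂ) * conj (1 : ℂ) + (2 • (1 : ℂ) + xi ψ u * conj (xi ψ g)) = 4
    rw [P.val]
    simp only [xi, adj, Pi.sub_apply, Pi.mul_apply, cj, hg, map_one, map_neg, map_sub, map_mul]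
    norm_num
  have hne : ∀ g, g ∉ K → g * g ∈ K → ψ g = -1 := fun g hg hgg =>
    (deg_three_value S.perfect (isCharacter_of_isIrr hψ) h3 ((hmem _).mp hgg)).resolve_right
      fun e => hg ((hmem g).mpr e)
  have huu : u * u ∈ K := (hmem _).mpr (sq_of_value_neg_one S.perfect (isCharacter_of_isIrr hψ) h3 hu)
  refine ⟨K, hKn, hidx, huK, huu, ?_, fun g hg hgg => ?_⟩
  · have h := second_orthogonality u u
    rw [if_pos (IsConj.refl u), horth u hu huK huu] at h
    exact_mod_cast h.symm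
  · by_contra hcon
    have h := second_orthogonality u g
    rw [if_neg hcon, horth g (hne g hg hgg) hg hgg] at h
    norm_num at h

end Setting

end CfsgLib.CharBlocks.DiffFour
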